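import Mathlib

/-! A simple quotient of a perfect central cover, compared with another quotient; commutators from a factorisation. -/

set_option autoImplicit false

namespace Cfsg.Lib.Classical.AutOrders

open scoped commutatorElement

theorem commutator_le_of_factor {O : Type*} [Group O] (E D : Subgroup O)
    (hf : ∀ g, ∃ e ∈ E, ∃ d ∈ D, g = e * d) (hn : ∀ d ∈ D, ∀ x ∈ E, d * x * d⁻¹ ∈ E)
    (hc : ∀ a ∈ D, ∀ b ∈ D, ⁅a, b⁆ ∈ E) : commutator O ≤ E := by
  haveI : E.Normal := ⟨fun x hx g => by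
    obtain ⟨e, he, d, hd, rfl⟩ := hf g
    have := E.mul_mem (E.mul_mem he (hn d hd x hx)) (E.inv_mem he)
    convert this using 1
    group⟩
  rw [commutator_def, Subgroup.commutator_le]
  intro a _ b _
  obtain ⟨e, he, d, hd, rfl⟩ := hf a
  obtain ⟨e', he', d', hd', rfl⟩ := hf b
  rw [← QuotientGroup.eq_one_iff]
  have h1 : (QuotientGroup.mk e : O ⧸ E) = 1 := (QuotientGroup.eq_one_iff e).2 he
  have h2 : (QuotientGroup.mk e' : O ⧸ E) = 1 := (QuotientGroup.eq_one_iff e').2 he'
  have h3 := (QuotientGroup.eq_one_iff (N := E) ⁅d, d'⁆).2 (hc d hd d' hd')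
  simp only [commutatorElement_def, QuotientGroup.mk_mul, QuotientGroup.mk_inv, h1, h2, one_mul] at h3 ⊢
  exact h3

/-- In a perfect group, an element that is central modulo the centre is central. -/
theorem mem_center_of_commutator_mem {Ω : Type*} [Group Ω] (hperf : commutator Ω = ⊤) {g : Ω}
    (hg : ∀ h, ⁅g, h⁆ ∈ Subgroup.center Ω) : g ∈ Subgroup.center Ω := by
  have hz := fun h => Subgroup.mem_center_iff.1 (hg h)
  let f : Ω →* Subgroup.center Ω := MonoidHom.mk' (fun h => ⟨⁅g, h⁆, hg h⟩) fun a b => Subtype.ext (by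
    show ⁅g, a * b⁆ = ⁅g, a⁆ * ⁅g, b⁆
    have e : ⁅g, a * b⁆ = ⁅g, a⁆ * (a * ⁅g, b⁆ * a⁻¹) := by simp only [commutatorElement_def]; group
    rw [e, hz b a, mul_inv_cancel_right])
  have hk : commutator Ω ≤ f.ker := by
    rw [commutator_def, Subgroup.commutator_le]
    intro a _ b _
    rw [MonoidHom.mem_ker, map_commutatorElement, commutatorElement_eq_one_iff_mul_comm]
    exact Subtype.ext (Subgroup.mem_center_iff.1 (f b).2 _)
  rw [hperf] at hk
  refine Subgroup.mem_center_iff.2 fun h => ?_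
  have := congrArg Subtype.val (MonoidHom.mem_ker.1 (hk (Subgroup.mem_top h)))
  exact (commutatorElement_eq_one_iff_mul_comm.1 this).symm

theorem exists_iso_of_cover_surj {S G Ω : Type*} [Group S] [Group G] [Group Ω] [IsSimpleGroup G]
    (θ : S →* G) (hθ : Function.Surjective θ) (hcen : θ.ker ≤ Subgroup.center S) (hperf : commutator S = ⊤)
    (ψ : S →* Ω) (hψ : Function.Surjective ψ) (hne : ∃ x, ψ x ∉ Subgroup.center Ω) :
    Nonempty (G ≃* Ω ⧸ Subgroup.center Ω) := by
  let π := (QuotientGroup.mk' (Subgroup.center Ω)).comp ψ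
  have hπ : Function.Surjective π := (QuotientGroup.mk'_surjective _).comp hψ
  have hmem : ∀ x, x ∈ π.ker ↔ ψ x ∈ Subgroup.center Ω := fun x => by
    rw [MonoidHom.mem_ker, MonoidHom.comp_apply, QuotientGroup.mk'_apply, QuotientGroup.eq_one_iff]
  have hK : π.ker ≤ θ.ker := by
    rcases ((π.normal_ker).map θ hθ).eq_bot_or_eq_top with h | h
    · exact fun x hx => MonoidHom.mem_ker.mpr (Subgroup.mem_bot.mp (h ▸ Subgroup.mem_map_of_mem θ hx))
    · exfalso
      obtain ⟨x, hx⟩ := hne
      have hz : ∀ a, ∃ z ∈ θ.ker, π a = π z := fun a => by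
        obtain ⟨k, hk, e⟩ := (h ▸ Subgroup.mem_top (θ a) : θ a ∈ π.ker.map θ)
        refine ⟨k⁻¹ * a, ?_, ?_⟩
        · rw [MonoidHom.mem_ker, map_mul, map_inv, e, inv_mul_cancel]
        · rw [map_mul, map_inv, MonoidHom.mem_ker.mp hk, inv_one, one_mul]
      have : commutator S ≤ π.ker := by
        rw [commutator_def, Subgroup.commutator_le]
        intro a _ b _
        obtain ⟨z, hz1, hz2⟩ := hz a
        rw [MonoidHom.mem_ker, map_commutatorElement, hz2, commutatorElement_eq_one_iff_mul_comm,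
          ← map_mul, ← map_mul, (Subgroup.mem_center_iff.mp (hcen hz1)) b]
      exact hx ((hmem x).1 (this (hperf ▸ Subgroup.mem_top x)))
  have hperfΩ : commutator Ω = ⊤ := by
    rw [eq_top_iff, ← Subgroup.map_top_of_surjective ψ hψ, ← hperf, commutator_def, Subgroup.map_commutator]
    exact Subgroup.commutator_mono le_top le_top
  have hle : θ.ker ≤ π.ker := fun x hx => by
    rw [hmem]
    refine mem_center_of_commutator_mem hperfΩ fun h => ?_
    obtain ⟨y, rfl⟩ := hψ h
    rw [← map_commutatorElement, commutatorElement_eq_one_iff_mul_comm.2 (Subgroup.mem_center_iff.1 (hcen hx) y).symm,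
      map_one]
    exact one_mem _
  exact ⟨((QuotientGroup.quotientKerEquivOfSurjective θ hθ).symm.trans
    (QuotientGroup.quotientMulEquivOfEq (le_antisymm hle hK))).trans (QuotientGroup.quotientKerEquivOfSurjective π hπ)⟩

end Cfsg.Lib.Classical.AutOrders
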