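import Mathlib

/-! Two quotients of a perfect central cover of a simple group. -/

set_option autoImplicit false

namespace Cfsg.Lib.Classical.AutOrders

theorem exists_iso_of_cover {S G P : Type*} [Group S] [Group G] [Group P] [Finite G] [Finite P] [IsSimpleGroup G]
    (θ : S →* G) (hθ : Function.Surjective θ) (hcen : θ.ker ≤ Subgroup.center S) (hperf : commutator S = ⊤)
    (ψ : S →* P) (hne : ∃ x, ψ x ≠ 1) (hcard : Nat.card P = Nat.card G) : Nonempty (G ≃* P) := by
  have hK : ψ.ker ≤ θ.ker := by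
    rcases ((ψ.normal_ker).map θ hθ).eq_bot_or_eq_top with h | h
    · exact fun x hx => MonoidHom.mem_ker.mpr (Subgroup.mem_bot.mp (h ▸ Subgroup.mem_map_of_mem θ hx))
    · exfalso
      obtain ⟨x, hx⟩ := hne
      have hz : ∀ a, ∃ z ∈ θ.ker, ψ a = ψ z := fun a => by
        obtain ⟨k, hk, e⟩ := (h ▸ Subgroup.mem_top (θ a) : θ a ∈ ψ.ker.map θ)
        refine ⟨k⁻¹ * a, ?_, ?_⟩
        · rw [MonoidHom.mem_ker, map_mul, map_inv, e, inv_mul_cancel]
        · rw [map_mul, map_inv, MonoidHom.mem_ker.mp hk, inv_one, one_mul]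
      have : commutator S ≤ ψ.ker := by
        rw [commutator_eq_closure, Subgroup.closure_le]
        rintro _ ⟨a, b, rfl⟩
        obtain ⟨z, hz1, hz2⟩ := hz a
        rw [SetLike.mem_coe, MonoidHom.mem_ker, map_commutatorElement, hz2, commutatorElement_eq_one_iff_mul_comm,
          ← map_mul, ← map_mul, (Subgroup.mem_center_iff.mp (hcen hz1)) b]
      exact hx (MonoidHom.mem_ker.mp (this (hperf ▸ Subgroup.mem_top x)))
  have hiθ : θ.ker.index = Nat.card G := by
    rw [Subgroup.index_ker, MonoidHom.range_eq_top.mpr hθ, Subgroup.card_top]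
  have hiψ : ψ.ker.index = Nat.card ψ.range := Subgroup.index_ker ψ
  have hle : Nat.card ψ.range ≤ Nat.card G := hcard ▸ Subgroup.card_le_card_group ψ.range
  have hmul := Subgroup.relIndex_mul_index hK
  rw [hiθ, hiψ] at hmul
  have hr0 : ψ.ker.relIndex θ.ker ≠ 0 := fun e => by
    rw [e, zero_mul] at hmul
    exact (Nat.card_pos (α := ψ.range)).ne hmul
  have hr : ψ.ker.relIndex θ.ker = 1 := by
    have := Nat.card_pos (α := G)
    nlinarith [Nat.one_le_iff_ne_zero.mpr hr0]
  have heq : θ.ker = ψ.ker := le_antisymm (Subgroup.relIndex_eq_one.mp hr) hK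
  have hsurj : Function.Surjective ψ := MonoidHom.range_eq_top.mp
    (Subgroup.eq_top_of_card_eq _ (by rw [hr, one_mul] at hmul; rw [← hmul, hcard]))
  exact ⟨((QuotientGroup.quotientKerEquivOfSurjective θ hθ).symm.trans (QuotientGroup.quotientMulEquivOfEq heq)).trans
    (QuotientGroup.quotientKerEquivOfSurjective ψ hsurj)⟩

end Cfsg.Lib.Classical.AutOrders
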