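import Cfsg.Agent.Classical.Misc.RootWords
import Cfsg.Agent.Classical.AutOrders.CoverIso
import Cfsg.Agent.Known.Sympl.Char2
import Cfsg.Agent.Classical.Symp.Matrix
import Cfsg.Agent.S1056
import Cfsg.Agent.S1060
import Cfsg.Agent.S2395
import Cfsg.Agent.S2396

/-! In even characteristic the Chevalley group of type B₂ is `PSp₄`. -/

set_option autoImplicit false
set_option maxRecDepth 100000
set_option linter.style.haveILetI false

namespace Cfsg.Lib.Classical.AutOrders

open Matrix Cfsg.Lie Cfsg.Lib.Classical.RootWords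

/-- The indices. -/
def spUniv : List (Fin 2 ⊕ Fin 2) := [Sum.inl 0, Sum.inl 1, Sum.inr 0, Sum.inr 1]

/-- Root elements of `Sp₄`, indexed as the roots of the datum of type B₂. -/
def spRoots : Roots (Fin 2 ⊕ Fin 2) (ZMod 2) := fun r =>
  [[(1, Sum.inr 0, Sum.inl 0, 1)],
    [(1, Sum.inr 0, Sum.inl 1, 1), (1, Sum.inr 1, Sum.inl 0, 1)],
    [(1, Sum.inl 1, Sum.inl 0, 1), (1, Sum.inr 0, Sum.inr 1, 1)],
    [(1, Sum.inr 1, Sum.inl 1, 1)],
    [(1, Sum.inl 1, Sum.inr 1, 1)],
    [(1, Sum.inl 0, Sum.inl 1, 1), (1, Sum.inr 1, Sum.inr 0, 1)],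
    [(1, Sum.inl 0, Sum.inr 1, 1), (1, Sum.inl 1, Sum.inr 0, 1)],
    [(1, Sum.inl 0, Sum.inr 0, 1)]].getD r []

/-- The form. -/
def spForm : PM (Fin 2 ⊕ Fin 2) (ZMod 2) :=
  [(0, 0, Sum.inl 0, Sum.inr 0, 1), (0, 0, Sum.inl 1, Sum.inr 1, 1), (0, 0, Sum.inr 0, Sum.inl 0, 1),
    (0, 0, Sum.inr 1, Sum.inl 1, 1)]

theorem spRoots_ok : okRoots chevB2 spUniv spRoots = true := by decide +kernel

theorem spRoots_form : ∀ r < 8,
    okEq (pmul (ptr (pgen spUniv spRoots r 1 1 0)) (pmul spForm (pgen spUniv spRoots r 1 1 0))) spForm = true := by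
  decide +kernel

theorem spUniv_ok : spUniv.Nodup ∧ ∀ i, i ∈ spUniv :=
  ⟨by decide +kernel, fun i => by rcases i with i | i <;> fin_cases i <;> simp [spUniv]⟩

/-- The Chevalley group of type B₂ in even characteristic is `PSp₄`. -/
theorem chevB2_iso_PSp {F : Type*} [Field F] [Fintype F] [CharP F 2] (hq : 3 ≤ Fintype.card F) :
    Nonempty (↥(chevB2.group F) ≃* Cfsg.PSp 2 F) := by
  classical
  obtain ⟨hnd, hmem⟩ := spUniv_ok
  let φ : ZMod 2 →+* F := ZMod.castHom (dvd_refl 2) F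
  have h1ne : (1 : F) ≠ 0 := one_ne_zero
  have hex : ∃ a : F, a ≠ 0 ∧ a ≠ 1 := by
    by_contra hc
    push Not at hc
    have : Fintype.card F ≤ ({0, 1} : Finset F).card :=
      Finset.card_le_card fun a _ => by
        by_cases h0 : a = 0
        · simp [h0]
        · simp [hc a h0]
    have h2 := Finset.card_le_two (a := (0 : F)) (b := 1)
    omega
  have hJ : ev φ (0 : F) 0 spForm = Matrix.J (Fin 2) F := by
    ext i j
    rcases i with i | i <;> rcases j with j | j <;> fin_cases i <;> fin_cases j <;>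
      simp [ev, spForm, term, Matrix.J, Matrix.single_apply, CharTwo.neg_eq]
  have hsp : ∀ r < 8, ∀ z : F, gen φ spRoots r z ∈ Matrix.symplecticGroup (Fin 2) F := fun r hr z => by
    rw [Cfsg.Lib.Sympl.mem_sp_iff]
    have e := ev_eq_of_okEq φ z (0 : F) (spRoots_form r hr)
    rw [ev_pmul, ev_pmul, ev_ptr, ev_pgen φ z (0 : F) hnd hmem] at e
    simp only [map_one, one_mul, pow_one, pow_zero, mul_one] at e
    have hF : ev φ z (0 : F) spForm = Matrix.J (Fin 2) F := by
      rw [← hJ]; simp [ev, spForm, term]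
    rw [hF] at e
    rw [mul_assoc]
    exact e
  let g : ℕ → F → Matrix.symplecticGroup (Fin 2) F := fun r z => if h : r < 8 then ⟨_, hsp r h z⟩ else 1
  have hg : ∀ r < chevB2.nroots, ∀ z, (Matrix.symplecticGroup (Fin 2) F).subtype (g r z) = gen φ spRoots r z :=
    fun r hr z => by
      show Subtype.val (g r z) = _
      simp only [g, dif_pos (show r < 8 from hr)]
  obtain ⟨ψ₀, hψ₀⟩ := exists_hom φ hnd hmem spRoots_ok (Matrix.symplecticGroup (Fin 2) F).subtype
    Subtype.val_injective g hg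
  let π := QuotientGroup.mk' (Subgroup.center (Matrix.symplecticGroup (Fin 2) F))
  have hD : chevB2 ∈ [chevG2, chevB2, chevD4, chevF4, chevE6, chevE7, chevE8] := by simp
  haveI := (Cfsg.Agent.S1056.result hex).1
  obtain ⟨θ, hθ, hcen, -⟩ := Cfsg.Agent.S2396.result chevB2 hD fun _ => hex
  refine exists_iso_of_cover θ hθ hcen (Cfsg.Agent.S2395.result chevB2 hD fun _ => hex) (π.comp ψ₀)
    ⟨chevB2.scGen F 7 1, fun e => ?_⟩ ?_
  · rw [MonoidHom.comp_apply, hψ₀ 7 (by decide) 1] at e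
    have e' := Cfsg.Lib.Sympl.π_injective (m := 2) (by norm_num) (e.trans (map_one π).symm)
    have e2 := congrFun (congrFun (congrArg (Matrix.symplecticGroup (Fin 2) F).subtype e') (Sum.inl 0)) (Sum.inr 0)
    rw [hg 7 (by decide), map_one] at e2
    simp [gen, spRoots, Matrix.single_apply, Matrix.one_apply] at e2
  · have hG := Cfsg.Agent.S1060.result (F := F) rfl
    have hS : Nat.card (Matrix.symplecticGroup (Fin 2) F) =
        Fintype.card F ^ 4 * (Fintype.card F ^ 2 - 1) * (Fintype.card F ^ 4 - 1) := by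
      rw [Cfsg.Lib.Classical.card_symplecticGroup, Nat.card_eq_fintype_card (α := F)]
      simp [Finset.prod_range_succ, mul_assoc]
    have hgcd : Nat.gcd 2 (Fintype.card F - 1) = 1 := by
      obtain ⟨n, -, hn⟩ := FiniteField.card F 2
      have h2 : 2 ∣ Fintype.card F := hn ▸ dvd_pow_self 2 n.ne_zero
      exact (Nat.prime_two.coprime_iff_not_dvd.mpr (by omega))
    rw [hgcd, one_mul] at hG
    rw [hG, ← hS]
    exact (Nat.card_congr (Equiv.ofBijective π
      ⟨Cfsg.Lib.Sympl.π_injective (m := 2) (by norm_num), QuotientGroup.mk'_surjective _⟩)).symm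

end Cfsg.Lib.Classical.AutOrders
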