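import Cfsg.Agent.Classical.AutOrders.RootMoves

/-! The subgroup generated by root elements. -/

set_option autoImplicit false
set_option linter.unusedSectionVars false

namespace Cfsg.Lib.Classical.RootMoves

open Matrix Cfsg.Lie Cfsg.Lib.Classical.RootWords

variable {ι : Type} [Fintype ι] [DecidableEq ι] {F : Type*} [Field F] {Q : (ι → F) → F} {D : ChevalleyDatum}
  {E : Roots ι ℤ}

/-- `ψ` sends the generators to the root elements of the table. -/
def IsRootHom (E : Roots ι ℤ) (ψ : D.SteinbergCover F →* Cfsg.isometryGroup F Q) : Prop :=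
  ∀ r < D.nroots, ∀ z, mat (ψ (D.scGen F r z)) = gen (Int.castRingHom F) E r z

variable {ψ : D.SteinbergCover F →* Cfsg.isometryGroup F Q}

theorem has_range (hψ : IsRootHom E ψ) {L : List (ℕ × ι × ι × ℤ)} (h : okMove D.nroots E L = true) :
    Has ψ.range L := fun z => by
  obtain ⟨r, hr, w, e⟩ := exists_of_okMove h z
  exact ⟨_, ⟨D.scGen F r w, rfl⟩, (hψ r hr w).trans e.symm⟩

theorem mat_injective : Function.Injective (mat : Cfsg.isometryGroup F Q → Matrix ι ι F) :=
  fun _ _ h => Subtype.ext (Units.ext h)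

theorem conj_mem_range (hψ : IsRootHom E ψ) (d : Cfsg.isometryGroup F Q)
    (h : ∀ r < D.nroots, ∀ z, ∃ r' < D.nroots, ∃ z',
      mat d * gen (Int.castRingHom F) E r z = gen (Int.castRingHom F) E r' z' * mat d)
    {x : Cfsg.isometryGroup F Q} (hx : x ∈ ψ.range) : d * x * d⁻¹ ∈ ψ.range := by
  have hle : (⊤ : Subgroup (D.SteinbergCover F)) ≤
      ψ.range.comap ((MulAut.conj d).toMonoidHom.comp ψ) := by
    rw [← PresentedGroup.closure_range_of, Subgroup.closure_le]
    rintro _ ⟨⟨⟨r, hr⟩, z⟩, rfl⟩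
    have hg : (PresentedGroup.of (⟨r, hr⟩, z) : D.SteinbergCover F) = D.scGen F r z := by
      rw [ChevalleyDatum.scGen, ChevalleyDatum.stX, dif_pos hr]; rfl
    obtain ⟨r', hr', z', e⟩ := h r hr z
    refine ⟨D.scGen F r' z', ?_⟩
    rw [MonoidHom.comp_apply, MulEquiv.coe_toMonoidHom, MulAut.conj_apply, hg, eq_mul_inv_iff_mul_eq]
    refine mat_injective ?_
    show mat (ψ (D.scGen F r' z')) * mat d = mat d * mat (ψ (D.scGen F r z))
    rw [hψ r' hr', hψ r hr, e]
  obtain ⟨s, rfl⟩ := hx
  exact hle (Subgroup.mem_top s)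

theorem range_le_omega (hperf : commutator (D.SteinbergCover F) = ⊤) : ψ.range ≤ Cfsg.Omega F Q := by
  rintro _ ⟨x, rfl⟩
  have h1 : x ∈ commutator (D.SteinbergCover F) := hperf ▸ Subgroup.mem_top x
  have h2 := Subgroup.mem_map_of_mem ψ h1
  rw [commutator_def, Subgroup.map_commutator] at h2
  exact Subgroup.commutator_mono le_top le_top h2

/-- An element of `Omega` from the Steinberg group which does not commute with another one. -/
theorem exists_noncentral (hom : ∀ x, ψ x ∈ Cfsg.Omega F Q) (hψ : IsRootHom E ψ) {r s : ℕ} (hr : r < D.nroots)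
    (hs : s < D.nroots)
    (h : gen (Int.castRingHom F) E r 1 * gen (Int.castRingHom F) E s 1 ≠
      gen (Int.castRingHom F) E s 1 * gen (Int.castRingHom F) E r 1) :
    ∃ x, ψ.codRestrict _ hom x ∉ Subgroup.center (Cfsg.Omega F Q) := by
  refine ⟨D.scGen F r 1, fun hc => h ?_⟩
  have := congrArg (fun g : Cfsg.Omega F Q => mat g.1)
    (Subgroup.mem_center_iff.1 hc (ψ.codRestrict _ hom (D.scGen F s 1)))
  rw [← hψ r hr, ← hψ s hs]
  exact this.symm

end Cfsg.Lib.Classical.RootMoves
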