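import Cfsg.Agent.Classical.AutOrders.D4Iso
import Cfsg.Agent.Classical.AutOrders.RootRange
import Cfsg.Agent.Classical.AutOrders.CoverSurj
import Cfsg.Agent.S1054

/-! Over every field the Chevalley group of type D₄ is `PΩ₈⁺`. -/

set_option autoImplicit false
set_option maxRecDepth 100000
set_option linter.style.haveILetI false
set_option linter.unusedSimpArgs false
set_option linter.unusedSectionVars false

namespace Cfsg.Lib.Classical.AutOrders

open Matrix Cfsg.Lie Cfsg.Lib.Classical.RootWords Cfsg.Lib.Classical.RootMoves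
open scoped commutatorElement

variable {F : Type*} [Field F]

/-- The left indices. -/
abbrev pl4 : Fin 4 → Fin 4 ⊕ Fin 4 := Sum.inl

/-- The right indices. -/
abbrev pr4 : Fin 4 → Fin 4 ⊕ Fin 4 := Sum.inr

theorem pairs4 : Pairs pl4 pr4 := ⟨Sum.inl_injective, Sum.inr_injective, fun _ _ => Sum.inl_ne_inr⟩

theorem hyp4 : IsHyp (Cfsg.quadFormPlus 4 F) pl4 pr4 := by
  refine ⟨fun v i => ?_, fun v i => ?_, fun i => ?_, fun i => ?_⟩ <;> fin_cases i <;>
    simp [Cfsg.quadFormPlus, QuadraticMap.polar, Fin.sum_univ_four, Pi.single_apply] <;> ring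

theorem moves_ok : ∀ i j : Fin 4, i ≠ j → okMove 24 orthRoots (moveA pl4 pr4 i j) = true ∧
    okMove 24 orthRoots (moveP pl4 pr4 i j) = true ∧ okMove 24 orthRoots (moveP pr4 pl4 i j) = true := by
  decide +kernel

/-- Weights of the torus of the last pair. -/
def w3 : Fin 4 ⊕ Fin 4 → ℤ := Sum.elim ![0, 0, 0, 1] ![0, 0, 0, -1]

theorem weights_ok : ∀ r < 24, (([-1, 0, 1] : List ℤ).any fun k =>
    okWeight w3 (fun _ => 0) (orthRoots r) k 0) = true := by decide +kernel

/-- The exchange of the last pair. -/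
def sw3 : (Fin 4 ⊕ Fin 4) ≃ (Fin 4 ⊕ Fin 4) := Equiv.swap (Sum.inl 3) (Sum.inr 3)

theorem swap_ok : ∀ r < 24, okMove 24 orthRoots (lperm sw3 (orthRoots r)) = true := by decide +kernel

/-- The torus element. -/
def tor3 (c : F) : Matrix (Fin 4 ⊕ Fin 4) (Fin 4 ⊕ Fin 4) F := Matrix.diagonal fun x => c ^ w3 x

/-- The exchange as a matrix. -/
def perm3 : Matrix (Fin 4 ⊕ Fin 4) (Fin 4 ⊕ Fin 4) F := (1 : Matrix _ _ F).submatrix sw3 id

theorem tor3_mul (c e : F) : tor3 c * tor3 e = tor3 (c * e) := by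
  simp [tor3, Matrix.diagonal_mul_diagonal, mul_zpow]

theorem perm3_mul (M : Matrix (Fin 4 ⊕ Fin 4) (Fin 4 ⊕ Fin 4) F) : perm3 * M = M.submatrix sw3 id := by
  ext a b
  simp [perm3, Matrix.mul_apply, Matrix.one_apply]

theorem perm3_sq : (perm3 : Matrix (Fin 4 ⊕ Fin 4) (Fin 4 ⊕ Fin 4) F) * perm3 = 1 := by
  rw [perm3_mul]
  ext a b
  simp [perm3, sw3, Matrix.one_apply]

theorem perm3_conj (M : Matrix (Fin 4 ⊕ Fin 4) (Fin 4 ⊕ Fin 4) F) :
    perm3 * M = M.submatrix sw3 sw3 * perm3 := by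
  rw [perm3_mul]
  ext a b
  rw [Matrix.mul_apply, Finset.sum_eq_single (sw3 b)]
  · simp [perm3, sw3, Matrix.one_apply]
  · intro x _ hx
    simp [perm3, Matrix.one_apply, show ¬ sw3 x = b from fun e => hx (by rw [← e]; simp [sw3])]
  · simp

theorem perm3_tor (c : F) : perm3 * tor3 c = tor3 c⁻¹ * perm3 := by
  rw [perm3_conj]
  congr 1
  rw [tor3, tor3, Matrix.submatrix_diagonal_equiv]
  congr 1
  funext x
  rcases x with x | x <;> fin_cases x <;> simp [w3, sw3, Equiv.swap_apply_def]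

theorem conj_tor {c : F} (hc : c ≠ 0) {r : ℕ} (hr : r < 24) (z : F) :
    ∃ z', tor3 c * gen (Int.castRingHom F) orthRoots r z = gen (Int.castRingHom F) orthRoots r z' * tor3 c := by
  have h := weights_ok r hr
  simp only [List.any_eq_true] at h
  obtain ⟨k, -, hk⟩ := h
  exact ⟨_, lgen_diagonal hk hc (a := 1) (one_mul 1) (fun x => by simp) z⟩

theorem conj_perm {r : ℕ} (hr : r < 24) (z : F) :
    ∃ r' < 24, ∃ z', perm3 * gen (Int.castRingHom F) orthRoots r z = gen (Int.castRingHom F) orthRoots r' z' * perm3 := by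
  obtain ⟨r', hr', z', e⟩ := exists_of_okMove (swap_ok r hr) z
  refine ⟨r', hr', z', ?_⟩
  rw [perm3_conj, gen_eq_lgen, ← e, ← lgen_perm, show sw3.symm = sw3 from Equiv.symm_swap _ _]

section Steps

variable {U : Subgroup (Cfsg.isometryGroup F (Cfsg.quadFormPlus 4 F))}

theorem reach_q {S : Set (Fin 4 ⊕ Fin 4)} {v w : Fin 4 ⊕ Fin 4 → F} (h : Reach U S v w) :
    Cfsg.quadFormPlus 4 F w = Cfsg.quadFormPlus 4 F v := by
  obtain ⟨u, -, -, e⟩ := h
  rw [← e]
  exact q_apply u v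

theorem step_l (H : HasPairMoves U pl4 pr4) (K : Fin 4) (hK : K.val + 1 < 4) (v : Fin 4 ⊕ Fin 4 → F) (hv : v ≠ 0)
    (hq : Cfsg.quadFormPlus 4 F v = 0) (hlow : ∀ i : Fin 4, i.val < K.val → v (pl4 i) = 0 ∧ v (pr4 i) = 0) :
    Reach U (low pl4 pr4 K.val) v (bv (pl4 K)) := by
  classical
  let J : Fin 4 := ⟨K.val + 1, hK⟩
  have hJK : K.val ≤ J.val := Nat.le_succ _
  have hne : K ≠ J := fun e => absurd (congrArg Fin.val e) (by simp [J])
  obtain ⟨v1, h1, hv1, hlow1⟩ : ∃ w, Reach U (low pl4 pr4 K.val) v w ∧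
      (∃ i : Fin 4, K.val ≤ i.val ∧ w (pl4 i) ≠ 0) ∧
      ∀ i : Fin 4, i.val < K.val → w (pl4 i) = 0 ∧ w (pr4 i) = 0 := by
    by_cases h : ∃ i : Fin 4, K.val ≤ i.val ∧ v (pl4 i) ≠ 0
    · exact ⟨v, Reach.refl U _ v, h, hlow⟩
    push Not at h
    obtain ⟨x, hx⟩ := Function.ne_iff.1 hv
    have hx' : ∃ j : Fin 4, K.val ≤ j.val ∧ v (pr4 j) ≠ 0 := by
      rcases x with i | i <;> rcases Nat.lt_or_ge i.val K.val with hi | hi
      · exact absurd (hlow i hi).1 hx
      · exact absurd (h i hi) hx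
      · exact absurd (hlow i hi).2 hx
      · exact ⟨i, hi, hx⟩
    obtain ⟨j, hj, hvj⟩ := hx'
    obtain ⟨i, hi, hij⟩ : ∃ i : Fin 4, K.val ≤ i.val ∧ i ≠ j := by
      by_cases e : K = j
      · exact ⟨J, hJK, e ▸ hne.symm⟩
      · exact ⟨K, le_rfl, e⟩
    refine ⟨_, reach_move (H.P i j hij) (fun e he => by
      simp [moveP] at he
      rcases he with rfl | rfl
      · exact (not_low pairs4 hj).2
      · exact (not_low pairs4 hi).2) 1 v, ⟨i, hi, ?_⟩, fun t ht => ?_⟩
    · simp [moveP, h i hi, hij, hvj]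
    · have t1 : t ≠ i := fun e => by rw [e] at ht; omega
      have t2 : t ≠ j := fun e => by rw [e] at ht; omega
      simp [moveP, hlow t ht, t1, t2]
  obtain ⟨v2, h2, hv2, hx2⟩ := reach_one pairs4 H K J le_rfl hJK hne v1 hv1
  have hlow2 : ∀ i : Fin 4, i.val < K.val → v2 (pl4 i) = 0 ∧ v2 (pr4 i) = 0 := fun i hi => by
    have ne : ∀ t : Fin 4, K.val ≤ t.val → i ≠ t := fun t ht e => by rw [e] at hi; omega
    rw [hx2 _ fun t ht => ⟨fun e => ne t ht (Sum.inl_injective e), Sum.inl_ne_inr⟩,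
      hx2 _ fun t ht => ⟨Sum.inr_ne_inl, fun e => ne t ht (Sum.inr_injective e)⟩]
    exact hlow1 i hi
  obtain ⟨w, hw, hwK, hwT, hwx⟩ := reach_clear_l pairs4 H K le_rfl
    (Finset.univ.filter fun j => j ≠ K ∧ K.val ≤ j.val) (fun j hj => (Finset.mem_filter.1 hj).2) v2 hv2
  have hz : ∀ i, i ≠ K → w (pl4 i) = 0 ∧ w (pr4 i) = 0 := fun i hi => by
    rcases Nat.lt_or_ge i.val K.val with h | h
    · have ne : ∀ t ∈ Finset.univ.filter (fun j => j ≠ K ∧ K.val ≤ j.val), i ≠ t := fun t ht e => by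
        have := (Finset.mem_filter.1 ht).2.2
        rw [e] at h; omega
      rw [hwx _ Sum.inl_ne_inr fun t ht => ⟨fun e => ne t ht (Sum.inl_injective e), Sum.inl_ne_inr⟩,
        hwx _ (fun e => hi (Sum.inr_injective e)) fun t ht =>
          ⟨Sum.inr_ne_inl, fun e => ne t ht (Sum.inr_injective e)⟩]
      exact hlow2 i h
    · exact hwT i (Finset.mem_filter.2 ⟨Finset.mem_univ _, hi, h⟩)
  have hq' : Cfsg.quadFormPlus 4 F w = 0 := (reach_q ((h1.trans h2).trans hw)).trans hq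
  rw [Cfsg.quadFormPlus, Finset.sum_eq_single K (fun i _ hi => by rw [(hz i hi).1, zero_mul]) (by simp),
    hwK, one_mul] at hq'
  convert (h1.trans h2).trans hw using 1
  funext x
  rcases x with i | i <;> by_cases hi : i = K
  · subst hi; simp [hwK]
  · simp [hi, (hz i hi).1]
  · subst hi; simp [hq']
  · simp [hi, (hz i hi).2]

theorem step_r (H : HasPairMoves U pl4 pr4) (K : Fin 4) (v : Fin 4 ⊕ Fin 4 → F) (hv : v (pr4 K) = 1)
    (hq : Cfsg.quadFormPlus 4 F v = 0) (hlow : ∀ i : Fin 4, i.val < K.val → v (pl4 i) = 0 ∧ v (pr4 i) = 0) :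
    Reach U (insert (pl4 K) (low pl4 pr4 K.val)) v (bv (pr4 K)) := by
  classical
  obtain ⟨w, hw, hwK, hwT, hwx⟩ := reach_clear_r pairs4 H K le_rfl
    (Finset.univ.filter fun j => j ≠ K ∧ K.val ≤ j.val) (fun j hj => (Finset.mem_filter.1 hj).2) v hv
  have hz : ∀ i, i ≠ K → w (pl4 i) = 0 ∧ w (pr4 i) = 0 := fun i hi => by
    rcases Nat.lt_or_ge i.val K.val with h | h
    · have ne : ∀ t ∈ Finset.univ.filter (fun j => j ≠ K ∧ K.val ≤ j.val), i ≠ t := fun t ht e => by
        have := (Finset.mem_filter.1 ht).2.2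
        rw [e] at h; omega
      rw [hwx _ (fun e => hi (Sum.inl_injective e)) fun t ht =>
          ⟨fun e => ne t ht (Sum.inl_injective e), Sum.inl_ne_inr⟩,
        hwx _ Sum.inr_ne_inl fun t ht => ⟨Sum.inr_ne_inl, fun e => ne t ht (Sum.inr_injective e)⟩]
      exact hlow i h
    · exact hwT i (Finset.mem_filter.2 ⟨Finset.mem_univ _, hi, h⟩)
  have hq' : Cfsg.quadFormPlus 4 F w = 0 := (reach_q hw).trans hq
  rw [Cfsg.quadFormPlus, Finset.sum_eq_single K (fun i _ hi => by rw [(hz i hi).1, zero_mul]) (by simp),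
    hwK, mul_one] at hq'
  convert hw using 1
  funext x
  rcases x with i | i <;> by_cases hi : i = K
  · subst hi; simp [hq']
  · simp [hi, (hz i hi).1]
  · subst hi; simp [hwK]
  · simp [hi, (hz i hi).2]

end Steps

/-- The isometries of the last pair. -/
def last3 : Subgroup (Cfsg.isometryGroup F (Cfsg.quadFormPlus 4 F)) where
  carrier := {g | ∀ x ∈ low pl4 pr4 3, RootMoves.mat g *ᵥ bv x = bv x}
  one_mem' := fun x _ => Matrix.one_mulVec _
  mul_mem' := fun {a b} ha hb x hx => by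
    show (RootMoves.mat a * RootMoves.mat b) *ᵥ bv x = bv x
    rw [← Matrix.mulVec_mulVec, hb x hx, ha x hx]
  inv_mem' := fun {a} ha x hx => by
    conv_lhs => rw [← ha x hx, Matrix.mulVec_mulVec]
    rw [show RootMoves.mat a⁻¹ * RootMoves.mat a = RootMoves.mat (a⁻¹ * a) from rfl, inv_mul_cancel]
    exact Matrix.one_mulVec _

theorem last3_shape {g : Cfsg.isometryGroup F (Cfsg.quadFormPlus 4 F)} (hg : g ∈ last3) :
    ∃ c : F, c ≠ 0 ∧ (RootMoves.mat g = tor3 c ∨ RootMoves.mat g = tor3 c * perm3) := by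
  have hz : ∀ x, (x = pl4 3 ∨ x = pr4 3) → ∀ i : Fin 4, i.val < 3 →
      RootMoves.mat g (pl4 i) x = 0 ∧ RootMoves.mat g (pr4 i) x = 0 := by
    intro x hx i hi
    have h := low_zero (F := F) pairs4 hyp4 hg (v := bv x) i hi (by
      rw [hyp4.pl, hyp4.pr]
      rcases hx with rfl | rfl <;> fin_cases i <;> simp at hi ⊢)
    rwa [Matrix.mulVec_single_one] at h
  have hsum : ∀ f : Fin 4 → F, (∀ i : Fin 4, i.val < 3 → f i = 0) → ∑ i, f i = f 3 := fun f hf => by
    rw [Finset.sum_eq_single (3 : Fin 4) (fun i _ hi => hf i (by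
      rcases Nat.lt_or_ge i.val 3 with h | h
      · exact h
      · exact absurd (Fin.ext (by omega) : i = 3) hi)) (by simp)]
  set M := RootMoves.mat g
  have hq : ∀ x, (x = pl4 3 ∨ x = pr4 3) → M (pl4 3) x * M (pr4 3) x = 0 := fun x hx => by
    have h : Cfsg.quadFormPlus 4 F (M *ᵥ bv x) = 0 :=
      (q_apply g _).trans (hx.elim (fun e => e ▸ hyp4.ql 3) fun e => e ▸ hyp4.qr 3)
    rw [Matrix.mulVec_single_one] at h
    rw [← h, Cfsg.quadFormPlus, hsum _ fun i hi => by simp [(hz x hx i hi).1]]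
    rfl
  have hp := polar_apply g (bv (pl4 3)) (bv (pr4 3))
  rw [hyp4.pr] at hp
  simp only [QuadraticMap.polar, Matrix.mulVec_single_one, Cfsg.quadFormPlus, Pi.add_apply] at hp
  simp only [Matrix.col_apply] at hp
  change ∑ x, (M (pl4 x) (pl4 3) + M (pl4 x) (pr4 3)) * (M (pr4 x) (pl4 3) + M (pr4 x) (pr4 3)) -
      ∑ x, M (pl4 x) (pl4 3) * M (pr4 x) (pl4 3) - ∑ x, M (pl4 x) (pr4 3) * M (pr4 x) (pr4 3) = _ at hp
  rw [hsum (fun i => (M (pl4 i) (pl4 3) + M (pl4 i) (pr4 3)) * (M (pr4 i) (pl4 3) + M (pr4 i) (pr4 3))) fun i hi =>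
        by simp only [(hz _ (Or.inl rfl) i hi).1, (hz _ (Or.inr rfl) i hi).1, add_zero, zero_mul],
    hsum (fun i => M (pl4 i) (pl4 3) * M (pr4 i) (pl4 3)) fun i hi =>
        by simp only [(hz _ (Or.inl rfl) i hi).1, zero_mul],
    hsum (fun i => M (pl4 i) (pr4 3) * M (pr4 i) (pr4 3)) fun i hi =>
        by simp only [(hz _ (Or.inr rfl) i hi).1, zero_mul]] at hp
  simp at hp
  have hcol : ∀ y x, x ∈ low pl4 pr4 3 → M y x = if y = x then 1 else 0 := fun y x hx => by
    have h := congrFun (hg x hx) y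
    rw [Matrix.mulVec_single_one] at h
    simpa [Pi.single_apply] using h
  have hl := hq _ (Or.inl rfl)
  have hr := hq _ (Or.inr rfl)
  have low_mem : ∀ i : Fin 4, i.val < 3 → pl4 i ∈ low pl4 pr4 3 ∧ pr4 i ∈ low pl4 pr4 3 := fun i hi =>
    ⟨⟨i, hi, Or.inl rfl⟩, ⟨i, hi, Or.inr rfl⟩⟩
  by_cases hb : M (pr4 3) (pl4 3) = 0
  · have h1 : M (pl4 3) (pl4 3) * M (pr4 3) (pr4 3) = 1 := by
      simp only [pl4, pr4] at hb hp ⊢
      linear_combination hp - (M (Sum.inl 3) (Sum.inr 3)) * hb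
    have ha : M (pl4 3) (pl4 3) ≠ 0 := left_ne_zero_of_mul_eq_one h1
    have hb' : M (pl4 3) (pr4 3) = 0 := (mul_eq_zero.1 hr).resolve_right (right_ne_zero_of_mul_eq_one h1)
    refine ⟨_, ha, Or.inl (Matrix.ext fun y x => ?_)⟩
    rcases x with i | i <;> rcases Nat.lt_or_ge i.val 3 with hi | hi
    · rw [hcol y _ (low_mem i hi).1]
      fin_cases i <;> simp at hi <;> rcases y with j | j <;> fin_cases j <;>
        simp [tor3, w3, Matrix.diagonal_apply]
    · obtain rfl : i = 3 := Fin.ext (by omega)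
      rcases y with j | j <;> fin_cases j <;>
        simp [tor3, w3, Matrix.diagonal_apply, hz _ (Or.inl rfl)] <;> exact hb
    · rw [hcol y _ (low_mem i hi).2]
      fin_cases i <;> simp at hi <;> rcases y with j | j <;> fin_cases j <;>
        simp [tor3, w3, Matrix.diagonal_apply]
    · obtain rfl : i = 3 := Fin.ext (by omega)
      rcases y with j | j <;> fin_cases j <;>
        simp [tor3, w3, Matrix.diagonal_apply, hz _ (Or.inr rfl)] <;>
        first | exact hb' | exact eq_inv_of_mul_eq_one_right h1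
  · have ha : M (pl4 3) (pl4 3) = 0 := (mul_eq_zero.1 hl).resolve_right hb
    have h1 : M (pr4 3) (pl4 3) * M (pl4 3) (pr4 3) = 1 := by
      simp only [pl4, pr4] at ha hp ⊢
      linear_combination hp - (M (Sum.inr 3) (Sum.inr 3)) * ha
    have hc : M (pl4 3) (pr4 3) ≠ 0 := right_ne_zero_of_mul_eq_one h1
    have hd : M (pr4 3) (pr4 3) = 0 := (mul_eq_zero.1 hr).resolve_left hc
    refine ⟨_, hc, Or.inr (Matrix.ext fun y x => ?_)⟩
    rw [tor3, Matrix.diagonal_mul]
    rcases x with i | i <;> rcases Nat.lt_or_ge i.val 3 with hi | hi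
    · rw [hcol y _ (low_mem i hi).1]
      fin_cases i <;> simp at hi <;> rcases y with j | j <;> fin_cases j <;>
        simp [w3, perm3, sw3, Matrix.one_apply, Equiv.swap_apply_def]
    · obtain rfl : i = 3 := Fin.ext (by omega)
      rcases y with j | j <;> fin_cases j <;>
        simp [w3, perm3, sw3, Matrix.one_apply, Equiv.swap_apply_def, hz _ (Or.inl rfl)] <;>
        first | exact ha | exact eq_inv_of_mul_eq_one_left h1
    · rw [hcol y _ (low_mem i hi).2]
      fin_cases i <;> simp at hi <;> rcases y with j | j <;> fin_cases j <;>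
        simp [w3, perm3, sw3, Matrix.one_apply, Equiv.swap_apply_def]
    · obtain rfl : i = 3 := Fin.ext (by omega)
      rcases y with j | j <;> fin_cases j <;>
        simp [w3, perm3, sw3, Matrix.one_apply, Equiv.swap_apply_def, hz _ (Or.inr rfl)] <;> exact hd

/-- A torus word. -/
def hword (r s : ℕ) (t : F) : Matrix (Fin 4 ⊕ Fin 4) (Fin 4 ⊕ Fin 4) F :=
  gen (Int.castRingHom F) orthRoots r t * gen (Int.castRingHom F) orthRoots s (-t⁻¹) *
    gen (Int.castRingHom F) orthRoots r t * gen (Int.castRingHom F) orthRoots r (-1) *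
    gen (Int.castRingHom F) orthRoots s 1 * gen (Int.castRingHom F) orthRoots r (-1)

/-- The diagonal of the first word. -/
def d13 (t : F) : Fin 4 ⊕ Fin 4 → F := Sum.elim ![1, 1, t, t⁻¹] ![1, 1, t⁻¹, t]

/-- The diagonal of the second word. -/
def d12 (t : F) : Fin 4 ⊕ Fin 4 → F := Sum.elim ![1, 1, t, t] ![1, 1, t⁻¹, t⁻¹]

set_option maxHeartbeats 1600000 in
theorem hword13 {t : F} (ht : t ≠ 0) : hword 13 10 t = Matrix.diagonal (d13 t) := by
  refine Matrix.ext_of_mulVec_single fun b => ?_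
  generalize (Pi.single b 1 : Fin 4 ⊕ Fin 4 → F) = v
  funext x
  simp only [hword, ← Matrix.mulVec_mulVec]
  rcases x with i | i <;> fin_cases i <;>
    simp [-Matrix.mulVec_mulVec, gen_eq_lgen, orthRoots, lgen_mulVec, d13, Matrix.mulVec_diagonal] <;>
    field_simp <;> ring

set_option maxHeartbeats 1600000 in
theorem hword12 {t : F} (ht : t ≠ 0) : hword 12 11 t = Matrix.diagonal (d12 t) := by
  refine Matrix.ext_of_mulVec_single fun b => ?_
  generalize (Pi.single b 1 : Fin 4 ⊕ Fin 4 → F) = v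
  funext x
  simp only [hword, ← Matrix.mulVec_mulVec]
  rcases x with i | i <;> fin_cases i <;>
    simp [-Matrix.mulVec_mulVec, gen_eq_lgen, orthRoots, lgen_mulVec, d12, Matrix.mulVec_diagonal] <;>
    field_simp <;> ring

theorem tor3_sq {t : F} (ht : t ≠ 0) : hword 13 10 t⁻¹ * hword 12 11 t = tor3 (t ^ 2) := by
  rw [hword13 (inv_ne_zero ht), hword12 ht, Matrix.diagonal_mul_diagonal, tor3]
  congr 1
  funext x
  rcases x with i | i <;> fin_cases i <;> simp [d13, d12, w3, ht, pow_two]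

/-- Over every field the Chevalley group of type D₄ is `PΩ₈⁺`. -/
theorem chevD4_iso_POmega_any :
    Nonempty (↥(chevD4.group F) ≃* Cfsg.POmega F (Cfsg.quadFormPlus 4 F)) := by
  classical
  let φ : ℤ →+* F := Int.castRingHom F
  obtain ⟨hnd, hmem⟩ := orthUniv_ok
  set QF := Cfsg.quadFormPlus 4 F with hQF
  let u : ℕ → F → (Matrix (Fin 4 ⊕ Fin 4) (Fin 4 ⊕ Fin 4) F)ˣ := fun r z => if h : r < 24 then
    ⟨gen φ orthRoots r z, gen φ orthRoots r (-z),
      by rw [(okRoots_add φ hnd hmem orthRoots_ok h z (-z)).1, add_neg_cancel,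
        gen_zero φ (okRoots_add φ hnd hmem orthRoots_ok h z z).2],
      by rw [(okRoots_add φ hnd hmem orthRoots_ok h (-z) z).1, neg_add_cancel,
        gen_zero φ (okRoots_add φ hnd hmem orthRoots_ok h z z).2]⟩ else 1
  have hu : ∀ r < 24, ∀ z, ((u r z : GL (Fin 4 ⊕ Fin 4) F) : Matrix (Fin 4 ⊕ Fin 4) (Fin 4 ⊕ Fin 4) F) =
      gen φ orthRoots r z := fun r hr z => by simp only [u, dif_pos hr]
  have humem : ∀ r z, (u r z : GL (Fin 4 ⊕ Fin 4) F) ∈ Cfsg.isometryGroup F QF := fun r z => by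
    by_cases hr : r < 24
    · intro x _
      show QF (((u r z : GL (Fin 4 ⊕ Fin 4) F) : Matrix (Fin 4 ⊕ Fin 4) (Fin 4 ⊕ Fin 4) F) *ᵥ x) = QF x
      rw [hu r hr]
      exact orthRoots_isom hr z x
    · simp only [u, dif_neg hr]
      exact one_mem _
  let c : Cfsg.isometryGroup F QF →* Matrix (Fin 4 ⊕ Fin 4) (Fin 4 ⊕ Fin 4) F :=
    (Units.coeHom _).comp (Cfsg.isometryGroup F QF).subtype
  have hc : Function.Injective c := fun a b h => Subtype.ext (Units.ext h)
  obtain ⟨ψ₀, hψ₀⟩ := exists_hom φ hnd hmem orthRoots_ok c hc (fun r z => ⟨u r z, humem r z⟩)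
    fun r hr z => hu r hr z
  have hψ : IsRootHom orthRoots ψ₀ := fun r hr z => by rw [hψ₀ r hr z]; exact hu r hr z
  have hD : chevD4 ∈ [chevG2, chevB2, chevD4, chevF4, chevE6, chevE7, chevE8] := by simp
  have hK : chevD4 ∈ [chevB2, chevG2] → ∃ x : F, x ≠ 0 ∧ x ≠ 1 := fun h => by
    simp only [List.mem_cons, List.not_mem_nil, or_false] at h
    exact absurd h (by rintro (e | e) <;> exact absurd (congrArg ChevalleyDatum.nroots e) (by decide +kernel))
  have hperf := Cfsg.Agent.S2395.result chevD4 hD hK (K := F)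
  have hle := range_le_omega (ψ := ψ₀) hperf
  have H : HasPairMoves ψ₀.range pl4 pr4 :=
    ⟨fun i j h => has_range hψ (moves_ok i j h).1, fun i j h => has_range hψ (moves_ok i j h).2.1,
      fun i j h => has_range hψ (moves_ok i j h).2.2⟩
  have hge : Cfsg.Omega F QF ≤ ψ₀.range := by
    refine commutator_le_of_factor ψ₀.range last3 (fun g => ?_) (fun d hd x hx => ?_) (fun a ha b hb => ?_)
    · obtain ⟨e, he, h⟩ := exists_fix pairs4 hyp4 (fun K hK v => step_l H K hK v) (fun K _ v => step_r H K v)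
        g 3 (by norm_num)
      exact ⟨e⁻¹, inv_mem he, e * g, h, by rw [inv_mul_cancel_left]⟩
    · refine conj_mem_range hψ d (fun r hr z => ?_) hx
      obtain ⟨c, hc, e | e⟩ := last3_shape hd
      · obtain ⟨z', hz⟩ := conj_tor hc hr z
        exact ⟨r, hr, z', by rw [e, hz]⟩
      · obtain ⟨r', hr', z₁, h1⟩ := conj_perm (F := F) hr z
        obtain ⟨z', hz⟩ := conj_tor hc hr' z₁
        exact ⟨r', hr', z', by rw [e, Matrix.mul_assoc, h1, ← Matrix.mul_assoc, hz, Matrix.mul_assoc]⟩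
    · have key : ∀ t : F, t ≠ 0 → ∀ y : Cfsg.isometryGroup F QF, RootMoves.mat y = tor3 (t ^ 2) → y ∈ ψ₀.range :=
        fun t ht y hy => by
        let W : ℕ → ℕ → F → chevD4.SteinbergCover F := fun r s t => chevD4.scGen F r t * chevD4.scGen F s (-t⁻¹) *
          chevD4.scGen F r t * chevD4.scGen F r (-1) * chevD4.scGen F s 1 * chevD4.scGen F r (-1)
        have hW : ∀ r < 24, ∀ s < 24, ∀ t, RootMoves.mat (ψ₀ (W r s t)) = hword r s t := fun r hr s hs t => by
          simp only [W, map_mul, hword]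
          show RootMoves.mat _ * RootMoves.mat _ * RootMoves.mat _ * RootMoves.mat _ * RootMoves.mat _ *
            RootMoves.mat _ = _
          rw [hψ r hr, hψ r hr, hψ s hs, hψ s hs]
        refine ⟨W 13 10 t⁻¹ * W 12 11 t, mat_injective ?_⟩
        rw [map_mul, hy, ← tor3_sq ht, ← hW 13 (by norm_num) 10 (by norm_num), ← hW 12 (by norm_num) 11 (by norm_num)]
        rfl
      obtain ⟨x, hx, ea⟩ := last3_shape ha
      obtain ⟨y, hy, eb⟩ := last3_shape hb
      suffices h : ∃ t : F, t ≠ 0 ∧ RootMoves.mat a * RootMoves.mat b =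
          tor3 (t ^ 2) * (RootMoves.mat b * RootMoves.mat a) by
        obtain ⟨t, ht, e⟩ := h
        refine key t ht _ ?_
        have e2 : RootMoves.mat ⁅a, b⁆ * (RootMoves.mat b * RootMoves.mat a) =
            RootMoves.mat a * RootMoves.mat b := by
          show RootMoves.mat (⁅a, b⁆ * (b * a)) = RootMoves.mat (a * b)
          rw [commutatorElement_def]; group
        rw [e] at e2
        exact (Units.mul_left_inj ((b * a : Cfsg.isometryGroup F QF) : GL (Fin 4 ⊕ Fin 4) F)).1 e2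
      rcases ea with ea | ea <;> rcases eb with eb | eb <;> rw [ea, eb]
      · exact ⟨1, one_ne_zero, by rw [tor3_mul, tor3_mul, tor3_mul, one_pow, one_mul, mul_comm]⟩
      · refine ⟨x, hx, ?_⟩
        rw [Matrix.mul_assoc (tor3 y), perm3_tor, ← Matrix.mul_assoc, ← Matrix.mul_assoc, tor3_mul,
          ← Matrix.mul_assoc, tor3_mul, tor3_mul]
        congr 2
        field_simp
      · refine ⟨y⁻¹, inv_ne_zero hy, ?_⟩
        rw [Matrix.mul_assoc (tor3 x), perm3_tor, ← Matrix.mul_assoc, ← Matrix.mul_assoc, tor3_mul,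
          ← Matrix.mul_assoc, tor3_mul, tor3_mul]
        congr 2
        field_simp
      · refine ⟨x / y, div_ne_zero hx hy, ?_⟩
        have : ∀ p q : F, tor3 p * perm3 * (tor3 q * perm3) = tor3 (p / q) := fun p q => by
          rw [Matrix.mul_assoc, ← Matrix.mul_assoc perm3, perm3_tor, Matrix.mul_assoc, perm3_sq, Matrix.mul_one,
            tor3_mul, div_eq_mul_inv]
        rw [this, this, tor3_mul]
        congr 1
        field_simp
  have hom : ∀ x, ψ₀ x ∈ Cfsg.Omega F QF := fun x => hle ⟨x, rfl⟩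
  have hsurj : Function.Surjective (ψ₀.codRestrict _ hom) := fun y => by
    obtain ⟨x, hx⟩ := hge y.2
    exact ⟨x, Subtype.ext hx⟩
  haveI := (Cfsg.Agent.S1054.result (F := F) chevD4 (by simp)).1
  obtain ⟨θ, hθ, hcen, -⟩ := Cfsg.Agent.S2396.result chevD4 hD hK (K := F)
  exact exists_iso_of_cover_surj θ hθ hcen hperf _ hsurj (exists_noncentral hom hψ (r := 23) (s := 0)
    (by decide +kernel) (by decide +kernel) fun e => by
      have e3 := congrFun (congrFun e (Sum.inl 0)) (Sum.inl 0)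
      simp [gen, orthRoots, Matrix.mul_apply, Fintype.sum_sum_type, Fin.sum_univ_four, Matrix.single_apply,
        Matrix.one_apply] at e3)

end Cfsg.Lib.Classical.AutOrders
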