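import Cfsg.Agent.Classical.Misc.RootWords
import Cfsg.Agent.Classical.AutOrders.CoverIso
import Cfsg.Agent.Classical.Orth.Simple
import Cfsg.Agent.Classical.Orth.StdForms
import Cfsg.Agent.S0293
import Cfsg.Agent.S0296
import Cfsg.Agent.S1061
import Cfsg.Agent.S2395
import Cfsg.Agent.S2396
import Cfsg.Agent.Chev.Simple

/-! Over a finite field the Chevalley group of type D₄ is `PΩ₈⁺`. -/

set_option autoImplicit false
set_option maxRecDepth 100000
set_option linter.style.haveILetI false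
set_option linter.unusedSimpArgs false

namespace Cfsg.Lib.Classical.AutOrders

open Matrix Cfsg.Lie Cfsg.Lib.Classical.RootWords

/-- The indices. -/
def orthUniv : List (Fin 4 ⊕ Fin 4) :=
  [Sum.inl 0, Sum.inl 1, Sum.inl 2, Sum.inl 3, Sum.inr 0, Sum.inr 1, Sum.inr 2, Sum.inr 3]

/-- Root elements of the orthogonal group, indexed as the roots of the datum of type D₄. -/
def orthRoots : Roots (Fin 4 ⊕ Fin 4) ℤ := fun r =>
  [[(1, Sum.inr 0, Sum.inl 1, -1), (1, Sum.inr 1, Sum.inl 0, 1)],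
    [(1, Sum.inr 0, Sum.inl 2, -1), (1, Sum.inr 2, Sum.inl 0, 1)],
    [(1, Sum.inl 3, Sum.inl 0, 1), (1, Sum.inr 0, Sum.inr 3, -1)],
    [(1, Sum.inr 0, Sum.inl 3, -1), (1, Sum.inr 3, Sum.inl 0, 1)],
    [(1, Sum.inl 2, Sum.inl 0, -1), (1, Sum.inr 0, Sum.inr 2, 1)],
    [(1, Sum.inl 1, Sum.inl 0, 1), (1, Sum.inr 0, Sum.inr 1, -1)],
    [(1, Sum.inr 1, Sum.inl 2, 1), (1, Sum.inr 2, Sum.inl 1, -1)],
    [(1, Sum.inl 3, Sum.inl 1, -1), (1, Sum.inr 1, Sum.inr 3, 1)],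
    [(1, Sum.inr 1, Sum.inl 3, 1), (1, Sum.inr 3, Sum.inl 1, -1)],
    [(1, Sum.inl 2, Sum.inl 1, 1), (1, Sum.inr 1, Sum.inr 2, -1)],
    [(1, Sum.inl 3, Sum.inl 2, 1), (1, Sum.inr 2, Sum.inr 3, -1)],
    [(1, Sum.inr 2, Sum.inl 3, -1), (1, Sum.inr 3, Sum.inl 2, 1)],
    [(1, Sum.inl 2, Sum.inr 3, 1), (1, Sum.inl 3, Sum.inr 2, -1)],
    [(1, Sum.inl 2, Sum.inl 3, 1), (1, Sum.inr 3, Sum.inr 2, -1)],
    [(1, Sum.inl 1, Sum.inl 2, 1), (1, Sum.inr 2, Sum.inr 1, -1)],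
    [(1, Sum.inl 1, Sum.inr 3, -1), (1, Sum.inl 3, Sum.inr 1, 1)],
    [(1, Sum.inl 1, Sum.inl 3, -1), (1, Sum.inr 3, Sum.inr 1, 1)],
    [(1, Sum.inl 1, Sum.inr 2, -1), (1, Sum.inl 2, Sum.inr 1, 1)],
    [(1, Sum.inl 0, Sum.inl 1, 1), (1, Sum.inr 1, Sum.inr 0, -1)],
    [(1, Sum.inl 0, Sum.inl 2, -1), (1, Sum.inr 2, Sum.inr 0, 1)],
    [(1, Sum.inl 0, Sum.inr 3, 1), (1, Sum.inl 3, Sum.inr 0, -1)],
    [(1, Sum.inl 0, Sum.inl 3, 1), (1, Sum.inr 3, Sum.inr 0, -1)],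
    [(1, Sum.inl 0, Sum.inr 2, 1), (1, Sum.inl 2, Sum.inr 0, -1)],
    [(1, Sum.inl 0, Sum.inr 1, 1), (1, Sum.inl 1, Sum.inr 0, -1)]].getD r []

theorem orthRoots_ok : okRoots chevD4 orthUniv orthRoots = true := by decide +kernel

theorem orthUniv_ok : orthUniv.Nodup ∧ ∀ i, i ∈ orthUniv :=
  ⟨by decide +kernel, fun i => by rcases i with i | i <;> fin_cases i <;> simp [orthUniv]⟩

set_option maxHeartbeats 4000000 in
theorem orthRoots_isom {F : Type*} [Field F] {r : ℕ} (hr : r < 24) (z : F) (x : Fin 4 ⊕ Fin 4 → F) :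
    Cfsg.quadFormPlus 4 F (gen (Int.castRingHom F) orthRoots r z *ᵥ x) = Cfsg.quadFormPlus 4 F x := by
  interval_cases r <;>
    (simp [gen, orthRoots, Cfsg.quadFormPlus, Matrix.add_mulVec, Fin.sum_univ_four, Matrix.mulVec, dotProduct,
      Matrix.single_apply, Matrix.one_apply, Fintype.sum_sum_type]; ring)

/-- Over a finite field the Chevalley group of type D₄ is `PΩ₈⁺`. -/
theorem chevD4_iso_POmega {F : Type*} [Field F] [Fintype F] :
    Nonempty (↥(chevD4.group F) ≃* Cfsg.POmega F (Cfsg.quadFormPlus 4 F)) := by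
  classical
  let φ : ℤ →+* F := Int.castRingHom F
  obtain ⟨hnd, hmem⟩ := orthUniv_ok
  set QF := Cfsg.quadFormPlus 4 F with hQF
  let u : ℕ → F → (Matrix (Fin 4 ⊕ Fin 4) (Fin 4 ⊕ Fin 4) F)ˣ := fun r z => if h : r < 24 then
    ⟨gen φ orthRoots r z, gen φ orthRoots r (-z),
      by rw [(okRoots_add φ hnd hmem orthRoots_ok h z (-z)).1, add_neg_cancel,
        gen_zero φ (okRoots_add φ hnd hmem orthRoots_ok h z z).2],
      by rw [(okRoots_add φ hnd hmem orthRoots_ok h (-z) z).1, neg_add_cancel,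
        gen_zero φ (okRoots_add φ hnd hmem orthRoots_ok h z z).2]⟩ else 1
  have hu : ∀ r < 24, ∀ z, ((u r z : GL (Fin 4 ⊕ Fin 4) F) : Matrix (Fin 4 ⊕ Fin 4) (Fin 4 ⊕ Fin 4) F) =
      gen φ orthRoots r z := fun r hr z => by simp only [u, dif_pos hr]
  have humem : ∀ r z, (u r z : GL (Fin 4 ⊕ Fin 4) F) ∈ Cfsg.isometryGroup F QF := fun r z => by
    by_cases hr : r < 24
    · intro x _
      show QF (((u r z : GL (Fin 4 ⊕ Fin 4) F) : Matrix (Fin 4 ⊕ Fin 4) (Fin 4 ⊕ Fin 4) F) *ᵥ x) = QF x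
      rw [hu r hr]
      exact orthRoots_isom hr z x
    · simp only [u, dif_neg hr]
      exact one_mem _
  let c : Cfsg.isometryGroup F QF →* Matrix (Fin 4 ⊕ Fin 4) (Fin 4 ⊕ Fin 4) F :=
    (Units.coeHom _).comp (Cfsg.isometryGroup F QF).subtype
  have hc : Function.Injective c := fun a b h => Subtype.ext (Units.ext h)
  obtain ⟨ψ₀, hψ₀⟩ := exists_hom φ hnd hmem orthRoots_ok c hc (fun r z => ⟨u r z, humem r z⟩)
    fun r hr z => hu r hr z
  have hD : chevD4 ∈ [chevG2, chevB2, chevD4, chevF4, chevE6, chevE7, chevE8] := by simp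
  have hK : chevD4 ∈ [chevB2, chevG2] → ∃ x : F, x ≠ 0 ∧ x ≠ 1 := fun h => by
    simp only [List.mem_cons, List.not_mem_nil, or_false] at h
    exact absurd h (by rintro (e | e) <;> exact absurd (congrArg ChevalleyDatum.nroots e) (by decide +kernel))
  have hperf := Cfsg.Agent.S2395.result chevD4 hD hK (K := F)
  have hom : ∀ x, ψ₀ x ∈ Cfsg.Omega F QF := fun x => by
    have h1 : x ∈ commutator (chevD4.SteinbergCover F) := hperf ▸ Subgroup.mem_top x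
    have h2 := Subgroup.mem_map_of_mem ψ₀ h1
    rw [commutator_def, Subgroup.map_commutator] at h2
    exact Subgroup.commutator_mono le_top le_top h2
  let π := QuotientGroup.mk' (Subgroup.center (Cfsg.Omega F QF))
  let ψ : chevD4.SteinbergCover F →* Cfsg.Omega F QF := ψ₀.codRestrict _ hom
  haveI : IsSimpleGroup ↥(chevD4.group F) :=
    ((⟨Cfsg.Lib.Chev.D4.ok, Cfsg.Lib.Chev.D4.okChain_, Cfsg.Lib.Chev.D4.okBase_all, Cfsg.Lib.Chev.okOrder_D4⟩ :
      Cfsg.Lib.Chev.Struct chevD4 Cfsg.Lib.Chev.D4.cert).simple Cfsg.Lib.Chev.okNeg_D4 Cfsg.Lib.Chev.D4.irr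
      Cfsg.Lib.Chev.opp_D4 ((⟨Cfsg.Lib.Chev.D4.ok, Cfsg.Lib.Chev.D4.okChain_, Cfsg.Lib.Chev.D4.okBase_all,
        Cfsg.Lib.Chev.okOrder_D4⟩ : Cfsg.Lib.Chev.Struct chevD4 Cfsg.Lib.Chev.D4.cert).commutator_eq_top
        Cfsg.Lib.Chev.D4.perfect fun h => absurd h Bool.false_ne_true) (by decide)).1
  obtain ⟨θ, hθ, hcen, -⟩ := Cfsg.Agent.S2396.result chevD4 hD hK (K := F)
  refine exists_iso_of_cover θ hθ hcen hperf (π.comp ψ) ⟨chevD4.scGen F 23 1, fun e => ?_⟩ ?_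
  · rw [MonoidHom.comp_apply] at e
    have e1 : ψ (chevD4.scGen F 23 1) ∈ Subgroup.center (Cfsg.Omega F QF) := (QuotientGroup.eq_one_iff _).mp e
    have e2 : ψ₀ (chevD4.scGen F 23 1) * ψ₀ (chevD4.scGen F 0 1) =
        ψ₀ (chevD4.scGen F 0 1) * ψ₀ (chevD4.scGen F 23 1) := by
      have := (Subgroup.mem_center_iff.mp e1) (ψ (chevD4.scGen F 0 1))
      exact (congrArg Subtype.val this).symm
    rw [hψ₀ 23 (by decide +kernel), hψ₀ 0 (by decide +kernel)] at e2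
    have e3 := congrFun (congrFun (congrArg c e2) (Sum.inl 0)) (Sum.inl 0)
    simp only [map_mul] at e3
    change (_ * _ : Matrix (Fin 4 ⊕ Fin 4) (Fin 4 ⊕ Fin 4) F) _ _ = (_ * _ : Matrix (Fin 4 ⊕ Fin 4) (Fin 4 ⊕ Fin 4) F) _ _ at e3
    simp [c, hu, gen, orthRoots, Matrix.mul_apply, Fintype.sum_sum_type, Fin.sum_univ_four, Matrix.single_apply,
      Matrix.one_apply, φ] at e3
  · have h1 := Cfsg.Agent.S1061.result (F := F) rfl
    have h2 := Cfsg.Agent.S0293.result (F := F) rfl 4 le_rfl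
    set q := Fintype.card F
    have hg : Nat.gcd 4 (q ^ 4 - 1) = Nat.gcd 2 (q - 1) ^ 2 := by
      have hq1 : 1 ≤ q := Fintype.card_pos
      rcases Nat.even_or_odd q with he | ho
      · have h3 : Nat.gcd 2 (q - 1) = 1 :=
          Nat.prime_two.coprime_iff_not_dvd.mpr (by obtain ⟨j, hj⟩ := he; omega)
        rw [h3, one_pow]
        have h4 : Even (q ^ 4) := he.pow_of_ne_zero (by norm_num)
        have h5 : 1 ≤ q ^ 4 := Nat.one_le_pow _ _ hq1
        exact Nat.Coprime.pow_left 2 (Nat.prime_two.coprime_iff_not_dvd.mpr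
          (by obtain ⟨j, hj⟩ := h4; omega) : Nat.Coprime 2 (q ^ 4 - 1))
      · obtain ⟨j, hj⟩ := ho
        have h3 : Nat.gcd 2 (q - 1) = 2 := Nat.gcd_eq_left (by omega)
        rw [h3]
        refine Nat.gcd_eq_left ?_
        obtain ⟨l, hl⟩ := Nat.even_mul_succ_self j
        have h4 : q ^ 4 = 1 + 4 * (2 * (2 * (l + l) ^ 2 + (l + l))) := by
          rw [← hl, hj]; ring
        exact ⟨2 * (2 * (l + l) ^ 2 + (l + l)), by omega⟩
    rw [hg, show (4 : ℕ) - 1 = 3 from rfl] at h2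
    simp only [Finset.prod_range_succ, Finset.prod_range_zero] at h2
    simp only [one_mul, Nat.reduceMul, Nat.reduceAdd, zero_add] at h2
    refine Nat.eq_of_mul_eq_mul_left (pow_pos (Nat.gcd_pos_of_pos_left (q - 1) (Nat.zero_lt_two)) 2) ?_
    rw [h1, h2]
    ring

end Cfsg.Lib.Classical.AutOrders
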