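import Cfsg.Agent.Classical.AutOrders.D4Iso

/-! The isomorphism `D₄(q) ≅ PΩ₈⁺(q)` with its values on root elements. -/

set_option autoImplicit false
set_option maxRecDepth 100000
set_option linter.style.haveILetI false
set_option linter.unusedSimpArgs false

namespace Cfsg.Lib.Classical.AutOrders

open Matrix Cfsg.Lie Cfsg.Lib.Classical.RootWords

theorem exists_iso_of_cover_spec {S G P : Type*} [Group S] [Group G] [Group P] [Finite G] [Finite P] [IsSimpleGroup G]
    (θ : S →* G) (hθ : Function.Surjective θ) (hcen : θ.ker ≤ Subgroup.center S) (hperf : commutator S = ⊤)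
    (ψ : S →* P) (hne : ∃ x, ψ x ≠ 1) (hcard : Nat.card P = Nat.card G) :
    ∃ e : G ≃* P, ∀ a, e (θ a) = ψ a := by
  have hK : ψ.ker ≤ θ.ker := by
    rcases ((ψ.normal_ker).map θ hθ).eq_bot_or_eq_top with h | h
    · exact fun x hx => MonoidHom.mem_ker.mpr (Subgroup.mem_bot.mp (h ▸ Subgroup.mem_map_of_mem θ hx))
    · exfalso
      obtain ⟨x, hx⟩ := hne
      have hz : ∀ a, ∃ z ∈ θ.ker, ψ a = ψ z := fun a => by
        obtain ⟨k, hk, e⟩ := (h ▸ Subgroup.mem_top (θ a) : θ a ∈ ψ.ker.map θ)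
        refine ⟨k⁻¹ * a, ?_, ?_⟩
        · rw [MonoidHom.mem_ker, map_mul, map_inv, e, inv_mul_cancel]
        · rw [map_mul, map_inv, MonoidHom.mem_ker.mp hk, inv_one, one_mul]
      have : commutator S ≤ ψ.ker := by
        rw [commutator_eq_closure, Subgroup.closure_le]
        rintro _ ⟨a, b, rfl⟩
        obtain ⟨z, hz1, hz2⟩ := hz a
        rw [SetLike.mem_coe, MonoidHom.mem_ker, map_commutatorElement, hz2, commutatorElement_eq_one_iff_mul_comm,
          ← map_mul, ← map_mul, (Subgroup.mem_center_iff.mp (hcen hz1)) b]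
      exact hx (MonoidHom.mem_ker.mp (this (hperf ▸ Subgroup.mem_top x)))
  have hiθ : θ.ker.index = Nat.card G := by
    rw [Subgroup.index_ker, MonoidHom.range_eq_top.mpr hθ, Subgroup.card_top]
  have hiψ : ψ.ker.index = Nat.card ψ.range := Subgroup.index_ker ψ
  have hle : Nat.card ψ.range ≤ Nat.card G := hcard ▸ Subgroup.card_le_card_group ψ.range
  have hmul := Subgroup.relIndex_mul_index hK
  rw [hiθ, hiψ] at hmul
  have hr0 : ψ.ker.relIndex θ.ker ≠ 0 := fun e => by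
    rw [e, zero_mul] at hmul
    exact (Nat.card_pos (α := ψ.range)).ne hmul
  have hr : ψ.ker.relIndex θ.ker = 1 := by
    have := Nat.card_pos (α := G)
    nlinarith [Nat.one_le_iff_ne_zero.mpr hr0]
  have heq : θ.ker = ψ.ker := le_antisymm (Subgroup.relIndex_eq_one.mp hr) hK
  have hsurj : Function.Surjective ψ := MonoidHom.range_eq_top.mp
    (Subgroup.eq_top_of_card_eq _ (by rw [hr, one_mul] at hmul; rw [← hmul, hcard]))
  refine ⟨((QuotientGroup.quotientKerEquivOfSurjective θ hθ).symm.trans (QuotientGroup.quotientMulEquivOfEq heq)).trans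
    (QuotientGroup.quotientKerEquivOfSurjective ψ hsurj), fun a => ?_⟩
  have h1 : (QuotientGroup.quotientKerEquivOfSurjective θ hθ).symm (θ a) = QuotientGroup.mk a :=
    (QuotientGroup.quotientKerEquivOfSurjective θ hθ).injective (by rw [MulEquiv.apply_symm_apply]; rfl)
  rw [MulEquiv.trans_apply, MulEquiv.trans_apply, h1, QuotientGroup.quotientMulEquivOfEq_mk]
  rfl

/-- The isomorphism sends each root element to the class of the corresponding matrix. -/
theorem exists_root_iso_D4 {F : Type*} [Field F] [Fintype F] :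
    ∃ e : ↥(chevD4.group F) ≃* Cfsg.Omega F (Cfsg.quadFormPlus 4 F) ⧸
        Subgroup.center (Cfsg.Omega F (Cfsg.quadFormPlus 4 F)),
      ∀ r < 24, ∀ (z : F) (y : ↥(chevD4.group F)), ((y : GL chevD4.Idx F) : Matrix chevD4.Idx chevD4.Idx F) =
        chevD4.x F r z → ∃ s : Cfsg.Omega F (Cfsg.quadFormPlus 4 F),
          ((s.1.1 : GL (Fin 4 ⊕ Fin 4) F) : Matrix (Fin 4 ⊕ Fin 4) (Fin 4 ⊕ Fin 4) F) =
            gen (Int.castRingHom F) orthRoots r z ∧ e y = QuotientGroup.mk s := by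
  classical
  let φ : ℤ →+* F := Int.castRingHom F
  obtain ⟨hnd, hmem⟩ := orthUniv_ok
  set QF := Cfsg.quadFormPlus 4 F with hQF
  let u : ℕ → F → (Matrix (Fin 4 ⊕ Fin 4) (Fin 4 ⊕ Fin 4) F)ˣ := fun r z => if h : r < 24 then
    ⟨gen φ orthRoots r z, gen φ orthRoots r (-z),
      by rw [(okRoots_add φ hnd hmem orthRoots_ok h z (-z)).1, add_neg_cancel,
        gen_zero φ (okRoots_add φ hnd hmem orthRoots_ok h z z).2],
      by rw [(okRoots_add φ hnd hmem orthRoots_ok h (-z) z).1, neg_add_cancel,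
        gen_zero φ (okRoots_add φ hnd hmem orthRoots_ok h z z).2]⟩ else 1
  have hu : ∀ r < 24, ∀ z, ((u r z : GL (Fin 4 ⊕ Fin 4) F) : Matrix (Fin 4 ⊕ Fin 4) (Fin 4 ⊕ Fin 4) F) =
      gen φ orthRoots r z := fun r hr z => by simp only [u, dif_pos hr]
  have humem : ∀ r z, (u r z : GL (Fin 4 ⊕ Fin 4) F) ∈ Cfsg.isometryGroup F QF := fun r z => by
    by_cases hr : r < 24
    · intro x _
      show QF (((u r z : GL (Fin 4 ⊕ Fin 4) F) : Matrix (Fin 4 ⊕ Fin 4) (Fin 4 ⊕ Fin 4) F) *ᵥ x) = QF x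
      rw [hu r hr]
      exact orthRoots_isom hr z x
    · simp only [u, dif_neg hr]
      exact one_mem _
  let c : Cfsg.isometryGroup F QF →* Matrix (Fin 4 ⊕ Fin 4) (Fin 4 ⊕ Fin 4) F :=
    (Units.coeHom _).comp (Cfsg.isometryGroup F QF).subtype
  have hc : Function.Injective c := fun a b h => Subtype.ext (Units.ext h)
  obtain ⟨ψ₀, hψ₀⟩ := exists_hom φ hnd hmem orthRoots_ok c hc (fun r z => ⟨u r z, humem r z⟩)
    fun r hr z => hu r hr z
  have hD : chevD4 ∈ [chevG2, chevB2, chevD4, chevF4, chevE6, chevE7, chevE8] := by simp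
  have hK : chevD4 ∈ [chevB2, chevG2] → ∃ x : F, x ≠ 0 ∧ x ≠ 1 := fun h => by
    simp only [List.mem_cons, List.not_mem_nil, or_false] at h
    exact absurd h (by rintro (e | e) <;> exact absurd (congrArg ChevalleyDatum.nroots e) (by decide +kernel))
  have hperf := Cfsg.Agent.S2395.result chevD4 hD hK (K := F)
  have hom : ∀ x, ψ₀ x ∈ Cfsg.Omega F QF := fun x => by
    have h1 : x ∈ commutator (chevD4.SteinbergCover F) := hperf ▸ Subgroup.mem_top x
    have h2 := Subgroup.mem_map_of_mem ψ₀ h1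
    rw [commutator_def, Subgroup.map_commutator] at h2
    exact Subgroup.commutator_mono le_top le_top h2
  let π := QuotientGroup.mk' (Subgroup.center (Cfsg.Omega F QF))
  let ψ : chevD4.SteinbergCover F →* Cfsg.Omega F QF := ψ₀.codRestrict _ hom
  haveI : IsSimpleGroup ↥(chevD4.group F) :=
    ((⟨Cfsg.Lib.Chev.D4.ok, Cfsg.Lib.Chev.D4.okChain_, Cfsg.Lib.Chev.D4.okBase_all, Cfsg.Lib.Chev.okOrder_D4⟩ :
      Cfsg.Lib.Chev.Struct chevD4 Cfsg.Lib.Chev.D4.cert).simple Cfsg.Lib.Chev.okNeg_D4 Cfsg.Lib.Chev.D4.irr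
      Cfsg.Lib.Chev.opp_D4 ((⟨Cfsg.Lib.Chev.D4.ok, Cfsg.Lib.Chev.D4.okChain_, Cfsg.Lib.Chev.D4.okBase_all,
        Cfsg.Lib.Chev.okOrder_D4⟩ : Cfsg.Lib.Chev.Struct chevD4 Cfsg.Lib.Chev.D4.cert).commutator_eq_top
        Cfsg.Lib.Chev.D4.perfect fun h => absurd h Bool.false_ne_true) (by decide)).1
  obtain ⟨θ, hθ, hcen, hθx⟩ := Cfsg.Agent.S2396.result chevD4 hD hK (K := F)
  suffices h : (∃ x, π.comp ψ x ≠ 1) ∧ Nat.card (Cfsg.Omega F (Cfsg.quadFormPlus 4 F) ⧸
      Subgroup.center (Cfsg.Omega F (Cfsg.quadFormPlus 4 F))) = Nat.card ↥(chevD4.group F) by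
    obtain ⟨e, he⟩ := exists_iso_of_cover_spec θ hθ hcen hperf (π.comp ψ) h.1 h.2
    refine ⟨e, fun r hr z y hy => ⟨ψ (chevD4.scGen F r z), ?_, ?_⟩⟩
    · show c (ψ₀ (chevD4.scGen F r z)) = _
      rw [hψ₀ r hr z]
      exact hu r hr z
    · rw [show y = θ (chevD4.scGen F r z) from Subtype.ext (Units.ext (hy.trans (hθx r z hr).symm)), he]
      rfl
  refine ⟨⟨chevD4.scGen F 23 1, fun e => ?_⟩, ?_⟩
  · rw [MonoidHom.comp_apply] at e
    have e1 : ψ (chevD4.scGen F 23 1) ∈ Subgroup.center (Cfsg.Omega F QF) := (QuotientGroup.eq_one_iff _).mp e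
    have e2 : ψ₀ (chevD4.scGen F 23 1) * ψ₀ (chevD4.scGen F 0 1) =
        ψ₀ (chevD4.scGen F 0 1) * ψ₀ (chevD4.scGen F 23 1) := by
      have := (Subgroup.mem_center_iff.mp e1) (ψ (chevD4.scGen F 0 1))
      exact (congrArg Subtype.val this).symm
    rw [hψ₀ 23 (by decide +kernel), hψ₀ 0 (by decide +kernel)] at e2
    have e3 := congrFun (congrFun (congrArg c e2) (Sum.inl 0)) (Sum.inl 0)
    simp only [map_mul] at e3
    change (_ * _ : Matrix (Fin 4 ⊕ Fin 4) (Fin 4 ⊕ Fin 4) F) _ _ = (_ * _ : Matrix (Fin 4 ⊕ Fin 4) (Fin 4 ⊕ Fin 4) F) _ _ at e3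
    simp [c, hu, gen, orthRoots, Matrix.mul_apply, Fintype.sum_sum_type, Fin.sum_univ_four, Matrix.single_apply,
      Matrix.one_apply, φ] at e3
  · have h1 := Cfsg.Agent.S1061.result (F := F) rfl
    have h2 := Cfsg.Agent.S0293.result (F := F) rfl 4 le_rfl
    set q := Fintype.card F
    have hg : Nat.gcd 4 (q ^ 4 - 1) = Nat.gcd 2 (q - 1) ^ 2 := by
      have hq1 : 1 ≤ q := Fintype.card_pos
      rcases Nat.even_or_odd q with he | ho
      · have h3 : Nat.gcd 2 (q - 1) = 1 :=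
          Nat.prime_two.coprime_iff_not_dvd.mpr (by obtain ⟨j, hj⟩ := he; omega)
        rw [h3, one_pow]
        have h4 : Even (q ^ 4) := he.pow_of_ne_zero (by norm_num)
        have h5 : 1 ≤ q ^ 4 := Nat.one_le_pow _ _ hq1
        exact Nat.Coprime.pow_left 2 (Nat.prime_two.coprime_iff_not_dvd.mpr
          (by obtain ⟨j, hj⟩ := h4; omega) : Nat.Coprime 2 (q ^ 4 - 1))
      · obtain ⟨j, hj⟩ := ho
        have h3 : Nat.gcd 2 (q - 1) = 2 := Nat.gcd_eq_left (by omega)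
        rw [h3]
        refine Nat.gcd_eq_left ?_
        obtain ⟨l, hl⟩ := Nat.even_mul_succ_self j
        have h4 : q ^ 4 = 1 + 4 * (2 * (2 * (l + l) ^ 2 + (l + l))) := by
          rw [← hl, hj]; ring
        exact ⟨2 * (2 * (l + l) ^ 2 + (l + l)), by omega⟩
    rw [hg, show (4 : ℕ) - 1 = 3 from rfl] at h2
    simp only [Finset.prod_range_succ, Finset.prod_range_zero] at h2
    simp only [one_mul, Nat.reduceMul, Nat.reduceAdd, zero_add] at h2
    refine Nat.eq_of_mul_eq_mul_left (pow_pos (Nat.gcd_pos_of_pos_left (q - 1) (Nat.zero_lt_two)) 2) ?_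
    rw [h1, h2]
    ring

end Cfsg.Lib.Classical.AutOrders
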