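import Cfsg.Agent.Known.Sympl.FieldData
import Cfsg.Agent.Known.Sympl.Char2
import Cfsg.Agent.Classical.Symp.Matrix

/-! The order of the automorphism group of `PSp`, given that automorphisms are semilinear. -/

set_option autoImplicit false
set_option linter.unusedSectionVars false
set_option linter.style.haveILetI false

namespace Cfsg.Lib.Classical.AutOrders

open Cfsg.Lib.Sympl

variable {F : Type*} [Field F] [Fintype F] {m : ℕ}

theorem card_mulAut_PSp (p f : ℕ) [Fact p.Prime] [CharP F p] (hF : Fintype.card F = p ^ f) (hm : 2 ≤ m)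
    (hdec : ∀ α : MulAut (Cfsg.PSp m F), ∃ (g : Cfsg.GSp m F) (σ : F ≃+* F), α = conjS g * fieldS σ) :
    Nat.card (MulAut (Cfsg.PSp m F)) = Nat.gcd 2 (p ^ f - 1) * f * Nat.card (Cfsg.PSp m F) := by
  classical
  have hm1 : 1 ≤ m := by omega
  let C : Cfsg.GSp m F →* MulAut (Cfsg.PSp m F) := conjS
  have hrange : Nat.card C.range = Nat.card (Matrix.symplecticGroup (Fin m) F) := by
    let sc : Fˣ →* Cfsg.GSp m F := MonoidHom.mk' scal scal_mul
    have hker : C.ker = sc.range := by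
      ext g
      rw [MonoidHom.mem_ker]
      exact (conjS_eq_one_iff hm g).trans ⟨fun ⟨u, hu⟩ => ⟨u, hu.symm⟩, fun ⟨u, hu⟩ => ⟨u, hu.symm⟩⟩
    have hscard : Nat.card sc.range = Nat.card Fˣ :=
      (Nat.card_congr (MonoidHom.ofInjective (f := sc) (scal_injective hm1)).toEquiv).symm
    let μ : Cfsg.GSp m F →* Fˣ := muHom hm1
    have hkmu : μ.ker = (spToGSp (F := F) (m := m)).range := by
      ext g
      rw [MonoidHom.mem_ker]
      refine ⟨fun h => ?_, ?_⟩
      · obtain ⟨s, rfl⟩ := exists_sp_of_mu hm1 (g := g) h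
        exact ⟨s, rfl⟩
      · rintro ⟨s, rfl⟩
        exact mu_spToGSp hm1 s
    have hinj : Function.Injective (spToGSp (F := F) (m := m)) := fun s t h =>
      Subtype.ext (congrArg (fun g : Cfsg.GSp m F =>
        ((g : GL (Fin m ⊕ Fin m) F) : Matrix (Fin m ⊕ Fin m) (Fin m ⊕ Fin m) F)) h)
    have h1 := μ.ker.card_mul_index
    have h2 := C.ker.card_mul_index
    rw [Subgroup.index_ker, MonoidHom.range_eq_top.mpr (fun c => mu_surjective hm1 c), Subgroup.card_top, hkmu,
      ← Nat.card_congr (MonoidHom.ofInjective hinj).toEquiv] at h1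
    rw [Subgroup.index_ker, hker, hscard, ← h1, mul_comm (Nat.card (Matrix.symplecticGroup (Fin m) F))] at h2
    exact Nat.eq_of_mul_eq_mul_left Nat.card_pos h2
  let e : C.range × (F ≃+* F) → MulAut (Cfsg.PSp m F) := fun x => (x.1 : MulAut (Cfsg.PSp m F)) * fieldS x.2
  have he : Function.Bijective e := by
    refine ⟨?_, fun α => ?_⟩
    · rintro ⟨⟨_, g, rfl⟩, σ⟩ ⟨⟨_, h, rfl⟩, τ⟩ hgh
      change C g * fieldS σ = C h * fieldS τ at hgh
      have h1 : (conjS (h⁻¹ * g) : MulAut (Cfsg.PSp m F)) * fieldS (σ * τ⁻¹) = 1 := by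
        show C (h⁻¹ * g) * fieldS (σ * τ⁻¹) = 1
        calc C (h⁻¹ * g) * fieldS (σ * τ⁻¹) = (C h)⁻¹ * (C g * fieldS σ) * (fieldS τ)⁻¹ := by
              rw [map_mul, map_mul, map_inv, map_inv]; group
          _ = 1 := by rw [hgh]; group
      obtain ⟨⟨u, hu⟩, hστ⟩ := conjS_fieldS_eq_one hm h1
      have hστ' : σ = τ := mul_inv_eq_one.mp hστ
      subst hστ'
      exact Prod.ext (Subtype.ext (mul_right_cancel hgh)) rfl
    · obtain ⟨g, σ, rfl⟩ := hdec α
      exact ⟨(⟨C g, g, rfl⟩, σ), rfl⟩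
  rw [← Nat.card_congr (Equiv.ofBijective e he), Nat.card_prod, hrange,
    (Known.FieldLight.ringAut_facts (F := F) p f hF).2,
    Subgroup.card_eq_card_quotient_mul_card_subgroup (Subgroup.center (Matrix.symplecticGroup (Fin m) F)),
    Cfsg.Lib.Classical.card_center_symplecticGroup hm1, Nat.card_eq_fintype_card (α := F), hF]
  show Nat.card (Cfsg.PSp m F) * _ * f = _
  ring

end Cfsg.Lib.Classical.AutOrders
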