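import Cfsg.Agent.Known.ChevAut.SpecialRange
import Cfsg.Agent.Chev.Isog.Data
import Cfsg.Agent.Chev.St.DataOk
import Cfsg.Agent.Known.ChevAut.Tables
import Cfsg.Agent.Known.ChevChar

/-! The outer automorphisms of type B₂ in characteristic two. -/

set_option autoImplicit false
set_option maxRecDepth 20000
set_option linter.style.haveILetI false

namespace Cfsg.Lib.Classical.AutOrders

open Cfsg.Lie Cfsg.Lib.Chev Cfsg.Lib.Known.ChevAut

/-- The cokernel data of B₂. -/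
noncomputable def b2Coker : CokerData chevB2 2 :=
  ⟨⟨1, by decide +kernel⟩, fun j => [0, 1].getD j.val 0, fun i => [-1, 1].getD i.val 0,
    fun i => [1, 2].getD i.val 0,
    fun i m => ([[1, 0], [1, 0]].getD i.val []).getD m.val 0,
    by decide +kernel, by decide +kernel, by decide +kernel, by decide +kernel⟩

theorem range_B2_two {C : Cert} {L : List ℕ} {T : List (List ℤ)} {F : Type*} [Field F] [Fintype F] [CharP F 2]
    (hT : Tabs chevB2 C L T) : Nat.card ↥(diagHom (F := F) hT).range = 2 := by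
  let S : Struct chevB2 B2.cert := ⟨B2.ok, B2.okChain_, B2.okBase_all, okOrder_B2⟩
  have hT' : Tabs chevB2 B2.cert [0, 1, 0, 1] B2.htTab := by
    obtain ⟨a, b, c, d, e⟩ := more_B2
    exact ⟨S, okNeg_B2, opp_B2, a, B2.ht, Cfsg.Lib.Known.okChar_of_mem (by simp), b, c, d, e⟩
  have hperf : ∀ x : F, ∃ y : F, y ^ 2 = x := fun x => by
    obtain ⟨y, hy⟩ := (Finite.injective_iff_surjective.mp (frobenius F 2).injective) x
    exact ⟨y, hy⟩
  haveI : CharP F Isog.isoB2.p := (inferInstance : CharP F 2)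
  obtain ⟨α, hα⟩ := Isog.exists_isogeny (D := chevB2) (I := Isog.isoB2) (K := F) S okNeg_B2
    ⟨_, Cfsg.Lib.Chev.St.okSt_B2⟩ Nat.prime_two Isog.okIso_B2 (by simp) hperf
  have hpos : ∀ r : Fin chevB2.nroots,
      (chevB2.nroots / 2 ≤ Isog.isoB2.rh r.val ↔ chevB2.nroots / 2 ≤ r.val) ∧
        Isog.isoB2.rh r.val < chevB2.nroots := by decide +kernel
  let π : Equiv.Perm (Fin chevB2.rank) := Equiv.swap ⟨0, by decide +kernel⟩ ⟨1, by decide +kernel⟩
  have hπ : ∀ i : Fin chevB2.rank, Isog.isoB2.rh (chevB2.simple i) = chevB2.simple (π i) := by decide +kernel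
  have hne : π ≠ 1 := by decide +kernel
  obtain ⟨hU, hV⟩ := fixes_UV hT'.str (η := α) fun r hr t =>
    ⟨Isog.isoB2.rh r, _, (hpos ⟨r, hr⟩).2, (hpos ⟨r, hr⟩).1, hα r hr t _ rfl⟩
  refine sym_two hne ⟨α, diagHom_eq hT ?_⟩ sym_B2 fun ρ ⟨θ, e⟩ => e ▸ diagHom_symmetry hT θ
  have hk : Kind hT'.str α π := Kind.of_shape ⟨hU, hV, fun i t => ?_⟩
  · obtain ⟨a, ha⟩ := hk
    exact ⟨a, ha.1, ha.2.1, ha.2.2⟩
  · refine ⟨t ^ Isog.isoB2.lm (chevB2.simple i), Subtype.ext ?_⟩
    have h := hα (chevB2.simple i) (simple_lt hT'.str i) t (gp hT'.str i t) rfl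
    rw [hπ i] at h
    exact h

end Cfsg.Lib.Classical.AutOrders
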