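import Cfsg.Agent.Classical.Misc.RootWords
import Cfsg.Prelude.Def_Classical

/-! Isometries of hyperbolic forms over any field, reduced by root elements. -/

set_option autoImplicit false
set_option linter.unusedSectionVars false
set_option linter.unusedSimpArgs false

namespace Cfsg.Lib.Classical.RootMoves

open Matrix Cfsg.Lib.Classical.RootWords

variable {ι : Type} [Fintype ι] [DecidableEq ι] {F : Type*} [Field F]

/-- A root element from its list of entries. -/
def lgen (L : List (ℕ × ι × ι × ℤ)) (z : F) : Matrix ι ι F :=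
  1 + (L.map fun e => Matrix.single e.2.1 e.2.2.1 ((Int.castRingHom F) e.2.2.2 * z ^ e.1)).sum

theorem gen_eq_lgen (E : Roots ι ℤ) (r : ℕ) (z : F) : gen (Int.castRingHom F) E r z = lgen (E r) z := rfl

/-- Scaling the parameter by a sign. -/
def lscale (ε : ℤ) (L : List (ℕ × ι × ι × ℤ)) : List (ℕ × ι × ι × ℤ) :=
  L.map fun e => (e.1, e.2.1, e.2.2.1, e.2.2.2 * ε ^ e.1)

/-- Relabelling the indices. -/
def lperm (σ : ι → ι) (L : List (ℕ × ι × ι × ℤ)) : List (ℕ × ι × ι × ℤ) :=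
  L.map fun e => (e.1, σ e.2.1, σ e.2.2.1, e.2.2.2)

/-- A list is one of the first `n` root elements up to sign. -/
def okMove (n : ℕ) (E : Roots ι ℤ) (L : List (ℕ × ι × ι × ℤ)) : Bool :=
  (List.range n).any fun r => ([1, -1] : List ℤ).any fun ε => (lscale ε L).isPerm (E r)

theorem exists_of_okMove {n : ℕ} {E : Roots ι ℤ} {L : List (ℕ × ι × ι × ℤ)} (h : okMove n E L = true) (z : F) :
    ∃ r < n, ∃ w, lgen L z = gen (Int.castRingHom F) E r w := by
  simp only [okMove, List.any_eq_true, List.mem_range] at h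
  obtain ⟨r, hr, ε, hε, hp⟩ := h
  refine ⟨r, hr, ((ε : F)) * z, ?_⟩
  rw [gen_eq_lgen, lgen, lgen]
  congr 1
  rw [← ((List.isPerm_iff.1 hp).map _).sum_eq, lscale, List.map_map]
  refine congrArg List.sum (List.map_congr_left fun e _ => ?_)
  simp only [Function.comp_apply]
  congr 1
  have hsq : ((ε : F) ^ e.1) * ((ε : F) ^ e.1) = 1 := by
    rw [← mul_pow]
    simp only [List.mem_cons, List.not_mem_nil, or_false] at hε
    rcases hε with rfl | rfl <;> simp
  rw [map_mul, map_pow, eq_intCast, eq_intCast, mul_pow]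
  linear_combination -((e.2.2.2 : F) * z ^ e.1) * hsq

theorem lgen_perm (σ : ι ≃ ι) (L : List (ℕ × ι × ι × ℤ)) (z : F) :
    (lgen L z).submatrix σ.symm σ.symm = lgen (lperm σ L) z := by
  rw [lgen, lgen, Matrix.submatrix_add, lperm, List.map_map]
  simp only [Pi.add_apply, Matrix.submatrix_one_equiv]
  congr 1
  induction L with
  | nil => simp
  | cons e L ih =>
    simp only [List.map_cons, List.sum_cons, Function.comp_apply, Matrix.submatrix_add, Pi.add_apply, ih]
    congr 1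
    ext a b
    simp [Matrix.single_apply, Equiv.eq_symm_apply]

/-- The weights of the entries of a list are proportional to their degrees, for both weight functions. -/
def okWeight (w : ι → ℤ) (π : ι → ℕ) (L : List (ℕ × ι × ι × ℤ)) (k : ℤ) (l : ℕ) : Bool :=
  L.all fun e => decide (w e.2.1 - w e.2.2.1 = k * e.1 ∧ (π e.2.1 + π e.2.2.1) % 2 = (l * e.1) % 2)

theorem lgen_diagonal {w : ι → ℤ} {π : ι → ℕ} {L : List (ℕ × ι × ι × ℤ)} {k : ℤ} {l : ℕ}
    (h : okWeight w π L k l = true) {c a : F} (hc : c ≠ 0) (ha : a * a = 1) {d : ι → F}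
    (hd : ∀ x, d x = a ^ π x * c ^ w x) (z : F) :
    Matrix.diagonal d * lgen L z = lgen L (z * a ^ l * c ^ k) * Matrix.diagonal d := by
  simp only [okWeight, List.all_eq_true, decide_eq_true_eq] at h
  rw [lgen, lgen, Matrix.mul_add, Matrix.add_mul, Matrix.mul_one, Matrix.one_mul]
  congr 1
  induction L with
  | nil => simp
  | cons e L ih =>
    simp only [List.map_cons, List.sum_cons, Matrix.mul_add, Matrix.add_mul]
    rw [ih fun x hx => h x (List.mem_cons_of_mem _ hx)]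
    congr 1
    obtain ⟨h1, h2⟩ := h e (by simp)
    have hw : c ^ w e.2.1 = (c ^ k) ^ e.1 * c ^ w e.2.2.1 := by
      rw [← zpow_natCast, ← _root_.zpow_mul, ← zpow_add₀ hc]
      congr 1
      omega
    have hp : a ^ π e.2.1 = (a ^ l) ^ e.1 * a ^ π e.2.2.1 := by
      rw [← pow_mul, ← pow_add]
      refine pow_eq_pow_mod (n := 2) _ (by rw [pow_two]; exact ha) |>.trans ?_
      refine Eq.trans ?_ (pow_eq_pow_mod (n := 2) _ (by rw [pow_two]; exact ha)).symm
      congr 1
      omega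
    ext a' b'
    rw [Matrix.diagonal_mul, Matrix.mul_diagonal, Matrix.single_apply, Matrix.single_apply]
    by_cases hab : e.2.1 = a' ∧ e.2.2.1 = b'
    · rw [if_pos hab, if_pos hab, ← hab.1, ← hab.2, hd, hd, hw, hp, mul_pow, mul_pow]
      ring
    · simp [hab]

theorem lgen_mulVec (L : List (ℕ × ι × ι × ℤ)) (z : F) (v : ι → F) (x : ι) :
    (lgen L z *ᵥ v) x = v x + (L.map fun e => if x = e.2.1 then (e.2.2.2 : F) * z ^ e.1 * v e.2.2.1 else 0).sum := by
  rw [lgen, Matrix.add_mulVec, Matrix.one_mulVec, Pi.add_apply]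
  congr 1
  induction L with
  | nil => simp
  | cons e L ih =>
    simp only [List.map_cons, List.sum_cons, Matrix.add_mulVec, Pi.add_apply, ih]
    congr 1
    rw [Matrix.mulVec, dotProduct, Finset.sum_eq_single e.2.2.1]
    · by_cases hx : x = e.2.1
      · simp [hx]
      · simp [hx, Matrix.single_apply, Ne.symm hx]
    · intro b _ hb
      simp [Matrix.single_apply, Ne.symm hb]
    · simp

/-- The matrix of an isometry. -/
abbrev mat {Q : (ι → F) → F} (g : Cfsg.isometryGroup F Q) : Matrix ι ι F := ((g : GL ι F) : Matrix ι ι F)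

/-- A standard vector. -/
abbrev bv (x : ι) : ι → F := Pi.single x 1

variable {Q : (ι → F) → F} (U : Subgroup (Cfsg.isometryGroup F Q)) {m : ℕ}

/-- The lists `L` give elements of `U`. -/
def Has (L : List (ℕ × ι × ι × ℤ)) : Prop := ∀ z : F, ∃ u ∈ U, mat u = lgen L z

/-- `w` is an image of `v` under an element of `U` fixing the standard vectors in `S`. -/
def Reach (S : Set ι) (v w : ι → F) : Prop :=
  ∃ u ∈ U, (∀ x ∈ S, mat u *ᵥ bv x = bv x) ∧ mat u *ᵥ v = w

theorem Reach.refl (S : Set ι) (v : ι → F) : Reach U S v v :=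
  ⟨1, one_mem _, fun x _ => Matrix.one_mulVec _, Matrix.one_mulVec _⟩

variable {U}

theorem Reach.trans {S : Set ι} {v w y : ι → F} (h : Reach U S v w) (h' : Reach U S w y) : Reach U S v y := by
  obtain ⟨u, hu, hS, e⟩ := h
  obtain ⟨u', hu', hS', e'⟩ := h'
  have hm : mat (u' * u) = mat u' * mat u := rfl
  exact ⟨u' * u, mul_mem hu' hu, fun x hx => by rw [hm, ← Matrix.mulVec_mulVec, hS x hx, hS' x hx],
    by rw [hm, ← Matrix.mulVec_mulVec, e, e']⟩

theorem reach_move {L : List (ℕ × ι × ι × ℤ)} (hL : Has U L) {S : Set ι} (hS : ∀ e ∈ L, e.2.2.1 ∉ S) (z : F)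
    (v : ι → F) :
    Reach U S v fun x => v x + (L.map fun e => if x = e.2.1 then (e.2.2.2 : F) * z ^ e.1 * v e.2.2.1 else 0).sum := by
  obtain ⟨u, hu, e⟩ := hL z
  refine ⟨u, hu, fun x hx => funext fun y => ?_, funext fun y => by rw [e, lgen_mulVec]⟩
  rw [e, lgen_mulVec, List.sum_eq_zero, add_zero]
  intro t ht
  obtain ⟨p, hp, rfl⟩ := List.mem_map.1 ht
  split_ifs
  · rw [bv, Pi.single_eq_of_ne (fun h => hS p hp (by rw [h]; exact hx)), mul_zero]
  · rfl

/-- The pairs: distinct indices `l i`, `r i`. -/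
structure Pairs (l r : Fin m → ι) : Prop where
  injl : Function.Injective l
  injr : Function.Injective r
  ne : ∀ i j, l i ≠ r j

/-- `ε_i - ε_j`. -/
def moveA (l r : Fin m → ι) (i j : Fin m) : List (ℕ × ι × ι × ℤ) := [(1, l i, l j, 1), (1, r j, r i, -1)]

/-- `ε_i + ε_j`. -/
def moveP (l r : Fin m → ι) (i j : Fin m) : List (ℕ × ι × ι × ℤ) := [(1, l i, r j, 1), (1, l j, r i, -1)]

/-- All three kinds. -/
structure HasPairMoves (U : Subgroup (Cfsg.isometryGroup F Q)) (l r : Fin m → ι) : Prop where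
  A : ∀ i j, i ≠ j → Has U (moveA l r i j)
  P : ∀ i j, i ≠ j → Has U (moveP l r i j)
  N : ∀ i j, i ≠ j → Has U (moveP r l i j)

/-- The indices of the first `k` pairs. -/
def low (l r : Fin m → ι) (k : ℕ) : Set ι := {x | ∃ i : Fin m, i.val < k ∧ (x = l i ∨ x = r i)}

variable {l r : Fin m → ι}

theorem not_low (hP : Pairs l r) {k : ℕ} {i : Fin m} (hi : k ≤ i.val) :
    l i ∉ low l r k ∧ r i ∉ low l r k := by
  constructor <;> rintro ⟨j, hj, h | h⟩
  · rw [hP.injl h] at hi; omega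
  · exact hP.ne _ _ h
  · exact hP.ne _ _ h.symm
  · rw [hP.injr h] at hi; omega

/-- Clearing the other pairs of a vector with coordinate `1` at `l k`. -/
theorem reach_clear_l (hP : Pairs l r) (H : HasPairMoves U l r) {k : ℕ} (K : Fin m) (hK : k ≤ K.val)
    (T : Finset (Fin m)) (hT : ∀ j ∈ T, j ≠ K ∧ k ≤ j.val) (v : ι → F) (hv : v (l K) = 1) :
    ∃ w, Reach U (low l r k) v w ∧ w (l K) = 1 ∧ (∀ j ∈ T, w (l j) = 0 ∧ w (r j) = 0) ∧
      ∀ x, x ≠ r K → (∀ j ∈ T, x ≠ l j ∧ x ≠ r j) → w x = v x := by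
  induction T using Finset.induction with
  | empty => exact ⟨v, Reach.refl U _ v, hv, by simp, fun _ _ _ => rfl⟩
  | @insert j T hjT ih =>
    obtain ⟨w, hw, hwK, hw0, hwx⟩ := ih fun i hi => hT i (Finset.mem_insert_of_mem hi)
    obtain ⟨hjK, hjk⟩ := hT j (Finset.mem_insert_self _ _)
    have n1 := (not_low hP hK).1
    have n2 := (not_low hP hK).2
    have n3 := (not_low hP hjk).1
    have n4 := (not_low hP hjk).2
    have h1 := hw.trans (reach_move (H.A j K hjK)
      (fun e he => by simp [moveA] at he; rcases he with rfl | rfl <;> assumption) (-w (l j)) w)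
    set w' := fun x => w x + ((moveA l r j K).map fun e =>
      if x = e.2.1 then (e.2.2.2 : F) * (-w (l j)) ^ e.1 * w e.2.2.1 else 0).sum with hw'
    have h2 := h1.trans (reach_move (H.N j K hjK)
      (fun e he => by simp [moveP] at he; rcases he with rfl | rfl <;> assumption) (-w' (r j)) w')
    refine ⟨_, h2, ?_, ?_, ?_⟩
    · simp [hw', moveA, moveP, hP.ne, hP.injl.eq_iff, Ne.symm hjK, hwK]
    · intro i hi
      rcases Finset.mem_insert.1 hi with rfl | hi
      · simp [hw', moveA, moveP, hP.ne, fun a b => (hP.ne a b).symm, hP.injl.eq_iff, hP.injr.eq_iff, hjK, Ne.symm hjK, hwK]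
      · have hij : i ≠ j := fun h => hjT (h ▸ hi)
        have hiK := (hT i (Finset.mem_insert_of_mem hi)).1
        simp [hw', moveA, moveP, hP.ne, fun a b => (hP.ne a b).symm, hP.injl.eq_iff, hP.injr.eq_iff, hij, hiK, hw0 i hi]
    · intro x hx hxT
      obtain ⟨e1, e2⟩ := hxT j (Finset.mem_insert_self _ _)
      simp [hw', moveA, moveP, hx, e1, e2, hwx x hx fun i hi => hxT i (Finset.mem_insert_of_mem hi)]

/-- Clearing the other pairs of a vector with coordinate `1` at `r k`, fixing `l k`. -/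
theorem reach_clear_r (hP : Pairs l r) (H : HasPairMoves U l r) {k : ℕ} (K : Fin m) (hK : k ≤ K.val)
    (T : Finset (Fin m)) (hT : ∀ j ∈ T, j ≠ K ∧ k ≤ j.val) (v : ι → F) (hv : v (r K) = 1) :
    ∃ w, Reach U (insert (l K) (low l r k)) v w ∧ w (r K) = 1 ∧ (∀ j ∈ T, w (l j) = 0 ∧ w (r j) = 0) ∧
      ∀ x, x ≠ l K → (∀ j ∈ T, x ≠ l j ∧ x ≠ r j) → w x = v x := by
  induction T using Finset.induction with
  | empty => exact ⟨v, Reach.refl U _ v, hv, by simp, fun _ _ _ => rfl⟩
  | @insert j T hjT ih =>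
    obtain ⟨w, hw, hwK, hw0, hwx⟩ := ih fun i hi => hT i (Finset.mem_insert_of_mem hi)
    obtain ⟨hjK, hjk⟩ := hT j (Finset.mem_insert_self _ _)
    have n1 : r K ∉ insert (l K) (low l r k) := fun h => h.elim (fun e => hP.ne K K e.symm) (not_low hP hK).2
    have n2 : l j ∉ insert (l K) (low l r k) := fun h => h.elim (fun e => hjK (hP.injl e)) (not_low hP hjk).1
    have n3 : r j ∉ insert (l K) (low l r k) := fun h => h.elim (fun e => hP.ne K j e.symm) (not_low hP hjk).2
    have h1 := hw.trans (reach_move (H.A K j (Ne.symm hjK))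
      (fun e he => by simp [moveA] at he; rcases he with rfl | rfl <;> assumption) (w (r j)) w)
    set w' := fun x => w x + ((moveA l r K j).map fun e =>
      if x = e.2.1 then (e.2.2.2 : F) * (w (r j)) ^ e.1 * w e.2.2.1 else 0).sum with hw'
    have h2 := h1.trans (reach_move (H.P K j (Ne.symm hjK))
      (fun e he => by simp [moveP] at he; rcases he with rfl | rfl <;> assumption) (w' (l j)) w')
    refine ⟨_, h2, ?_, ?_, ?_⟩
    · simp [hw', moveA, moveP, hP.ne, fun a b => (hP.ne a b).symm, hP.injr.eq_iff, Ne.symm hjK, hwK]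
    · intro i hi
      rcases Finset.mem_insert.1 hi with rfl | hi
      · simp [hw', moveA, moveP, hP.ne, fun a b => (hP.ne a b).symm, hP.injl.eq_iff, hP.injr.eq_iff, hjK, Ne.symm hjK, hwK]
      · have hij : i ≠ j := fun h => hjT (h ▸ hi)
        have hiK := (hT i (Finset.mem_insert_of_mem hi)).1
        simp [hw', moveA, moveP, hP.ne, fun a b => (hP.ne a b).symm, hP.injl.eq_iff, hP.injr.eq_iff, hij, hiK, hw0 i hi]
    · intro x hx hxT
      obtain ⟨e1, e2⟩ := hxT j (Finset.mem_insert_self _ _)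
      simp [hw', moveA, moveP, hx, e1, e2, hwx x hx fun i hi => hxT i (Finset.mem_insert_of_mem hi)]

/-- Making the coordinate at `l K` equal to `1`, given another pair. -/
theorem reach_one (hP : Pairs l r) (H : HasPairMoves U l r) {k : ℕ} (K J : Fin m) (hK : k ≤ K.val) (hJ : k ≤ J.val)
    (hKJ : K ≠ J) (v : ι → F) (hv : ∃ i : Fin m, k ≤ i.val ∧ v (l i) ≠ 0) :
    ∃ w, Reach U (low l r k) v w ∧ w (l K) = 1 ∧ ∀ x, (∀ i : Fin m, k ≤ i.val → x ≠ l i ∧ x ≠ r i) → w x = v x := by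
  have mv : ∀ (i j : Fin m), k ≤ i.val → k ≤ j.val → i ≠ j → ∀ (z : F) (u : ι → F),
      ∃ w, Reach U (low l r k) u w ∧ w (l i) = u (l i) + z * u (l j) ∧
        (∀ t, t ≠ i → w (l t) = u (l t)) ∧
        ∀ x, (∀ i : Fin m, k ≤ i.val → x ≠ l i ∧ x ≠ r i) → w x = u x := by
    intro i j hi hj hij z u
    refine ⟨_, reach_move (H.A i j hij) (fun e he => by
      simp [moveA] at he
      rcases he with rfl | rfl
      · exact (not_low hP hj).1
      · exact (not_low hP hi).2) z u, ?_, ?_, ?_⟩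
    · simp [moveA, hP.ne]
    · intro t ht; simp [moveA, hP.ne, hP.injl.eq_iff, ht]
    · intro x hx; simp [moveA, (hx i hi).1, (hx j hj).2]
  obtain ⟨i, hi, hvi⟩ := hv
  obtain ⟨v1, h1, hv1, hx1⟩ : ∃ w, Reach U (low l r k) v w ∧ w (l K) ≠ 0 ∧
      ∀ x, (∀ i : Fin m, k ≤ i.val → x ≠ l i ∧ x ≠ r i) → w x = v x := by
    by_cases h : v (l K) = 0
    · have hne : K ≠ i := fun e => hvi (e ▸ h)
      obtain ⟨w, hw, e1, -, e3⟩ := mv K i hK hi hne 1 v
      exact ⟨w, hw, by rw [e1, h, zero_add, one_mul]; exact hvi, e3⟩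
    · exact ⟨v, Reach.refl U _ v, h, fun _ _ => rfl⟩
  obtain ⟨v2, h2, e2, e2', hx2⟩ := mv J K hJ hK (Ne.symm hKJ) ((1 - v1 (l J)) * (v1 (l K))⁻¹) v1
  rw [mul_assoc, inv_mul_cancel₀ hv1, mul_one, add_sub_cancel] at e2
  obtain ⟨v3, h3, e3, -, hx3⟩ := mv K J hK hJ hKJ (1 - v2 (l K)) v2
  rw [e2, mul_one, add_sub_cancel] at e3
  exact ⟨v3, (h1.trans h2).trans h3, e3, fun x hx => by rw [hx3 x hx, hx2 x hx, hx1 x hx]⟩

/-- The form pairs `l i` with `r i`. -/
structure IsHyp (Q : (ι → F) → F) (l r : Fin m → ι) : Prop where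
  pl : ∀ v i, QuadraticMap.polar Q v (bv (l i)) = v (r i)
  pr : ∀ v i, QuadraticMap.polar Q v (bv (r i)) = v (l i)
  ql : ∀ i, Q (bv (l i)) = 0
  qr : ∀ i, Q (bv (r i)) = 0

theorem q_apply (g : Cfsg.isometryGroup F Q) (x : ι → F) : Q (mat g *ᵥ x) = Q x := g.2 x x

theorem polar_apply (g : Cfsg.isometryGroup F Q) (x y : ι → F) :
    QuadraticMap.polar Q (mat g *ᵥ x) (mat g *ᵥ y) = QuadraticMap.polar Q x y := by
  simp only [QuadraticMap.polar, ← Matrix.mulVec_add, q_apply]

theorem low_succ (K : Fin m) : low l r (K.val + 1) = insert (r K) (insert (l K) (low l r K.val)) := by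
  ext x
  constructor
  · rintro ⟨i, hi, h⟩
    rcases Nat.lt_or_ge i.val K.val with h' | h'
    · exact Or.inr (Or.inr ⟨i, h', h⟩)
    · obtain rfl : i = K := Fin.ext (by omega)
      rcases h with h | h
      · exact Or.inr (Or.inl h)
      · exact Or.inl h
  · rintro (h | h | ⟨i, hi, h⟩)
    · exact ⟨K, by omega, Or.inr h⟩
    · exact ⟨K, by omega, Or.inl h⟩
    · exact ⟨i, by omega, h⟩

theorem low_zero (hP : Pairs l r) (hQ : IsHyp Q l r) {k : ℕ} {g : Cfsg.isometryGroup F Q}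
    (hg : ∀ x ∈ low l r k, mat g *ᵥ bv x = bv x) {v : ι → F} (i : Fin m) (hi : i.val < k)
    (hv : QuadraticMap.polar Q v (bv (l i)) = 0 ∧ QuadraticMap.polar Q v (bv (r i)) = 0) :
    (mat g *ᵥ v) (l i) = 0 ∧ (mat g *ᵥ v) (r i) = 0 := by
  refine ⟨?_, ?_⟩
  · rw [← hQ.pr (mat g *ᵥ v) i, ← hg (r i) ⟨i, hi, Or.inr rfl⟩, polar_apply]; exact hv.2
  · rw [← hQ.pl (mat g *ᵥ v) i, ← hg (l i) ⟨i, hi, Or.inl rfl⟩, polar_apply]; exact hv.1

/-- The first step moves a singular vector to `l K`; the second moves a partner to `r K`. -/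
theorem exists_fix (hP : Pairs l r) (hQ : IsHyp Q l r)
    (step₁ : ∀ K : Fin m, K.val + 1 < m → ∀ v : ι → F, v ≠ 0 → Q v = 0 →
      (∀ i : Fin m, i.val < K.val → v (l i) = 0 ∧ v (r i) = 0) → Reach U (low l r K.val) v (bv (l K)))
    (step₂ : ∀ K : Fin m, K.val + 1 < m → ∀ v : ι → F, v (r K) = 1 → Q v = 0 →
      (∀ i : Fin m, i.val < K.val → v (l i) = 0 ∧ v (r i) = 0) →
        Reach U (insert (l K) (low l r K.val)) v (bv (r K)))
    (g : Cfsg.isometryGroup F Q) :
    ∀ k, k < m → ∃ u ∈ U, ∀ x ∈ low l r k, mat (u * g) *ᵥ bv x = bv x := by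
  intro k
  induction k with
  | zero => exact fun _ => ⟨1, one_mem _, fun x ⟨i, hi, _⟩ => absurd hi (Nat.not_lt_zero _)⟩
  | succ k ih =>
    intro hk
    obtain ⟨u, hu, hfix⟩ := ih (by omega)
    let K : Fin m := ⟨k, by omega⟩
    have hne : ∀ i : Fin m, i.val < k → i ≠ K := fun i hi e => by rw [e] at hi; exact lt_irrefl _ hi
    have hzero : ∀ x, (x = l K ∨ x = r K) → ∀ i : Fin m, i.val < k →
        QuadraticMap.polar Q (bv x) (bv (l i)) = 0 ∧ QuadraticMap.polar Q (bv x) (bv (r i)) = 0 := by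
      intro x hx i hi
      have := hne i hi
      rw [hQ.pl, hQ.pr]
      rcases hx with rfl | rfl <;>
        simp [bv, Pi.single_apply, hP.ne, fun a b => (hP.ne a b).symm, hP.injl.eq_iff, hP.injr.eq_iff, this]
    obtain ⟨u₁, hu₁, hS₁, e₁⟩ := step₁ K (by simp [K]; omega) (mat (u * g) *ᵥ bv (l K))
      (fun h => by
        have hb : (bv (l K) : ι → F) = 0 := Matrix.mulVec_injective_iff_isUnit.2 (Units.isUnit _)
          (h.trans (Matrix.mulVec_zero _).symm)
        simpa [bv] using congrFun hb (l K))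
      ((q_apply (u * g) _).trans (hQ.ql K)) fun i hi => low_zero hP hQ hfix i hi (hzero _ (Or.inl rfl) i hi)
    have hm1 : mat (u₁ * (u * g)) = mat u₁ * mat (u * g) := rfl
    have hfix1 : ∀ x ∈ insert (l K) (low l r k), mat (u₁ * (u * g)) *ᵥ bv x = bv x := by
      rintro x (rfl | hx)
      · rw [hm1, ← Matrix.mulVec_mulVec, e₁]
      · rw [hm1, ← Matrix.mulVec_mulVec, hfix x hx, hS₁ x hx]
    obtain ⟨u₂, hu₂, hS₂, e₂⟩ := step₂ K (by simp [K]; omega) (mat (u₁ * (u * g)) *ᵥ bv (r K))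
      (by
        rw [← hQ.pl (mat (u₁ * (u * g)) *ᵥ bv (r K)) K, ← hfix1 (l K) (Or.inl rfl), polar_apply, hQ.pl]
        simp [bv])
      ((q_apply (u₁ * (u * g)) _).trans (hQ.qr K))
      fun i hi => low_zero hP hQ (fun x hx => hfix1 x (Or.inr hx)) i hi (hzero _ (Or.inr rfl) i hi)
    refine ⟨u₂ * (u₁ * u), mul_mem hu₂ (mul_mem hu₁ hu), fun x hx => ?_⟩
    have hm2 : mat (u₂ * (u₁ * u) * g) = mat u₂ * mat (u₁ * (u * g)) := by
      rw [mul_assoc, mul_assoc]; rfl
    rw [show k + 1 = K.val + 1 from rfl, low_succ K] at hx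
    rcases hx with rfl | hx
    · rw [hm2, ← Matrix.mulVec_mulVec, e₂]
    · rw [hm2, ← Matrix.mulVec_mulVec, hfix1 x hx, hS₂ x hx]

end Cfsg.Lib.Classical.RootMoves
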