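import Cfsg.Agent.Known.ChevAut.OutCard
import Cfsg.Prelude.Def_ChevD4

/-! The cokernel of the torus of type D₄. -/

set_option autoImplicit false
set_option linter.style.haveILetI false

namespace Cfsg.Lib.Classical.AutOrders

open Cfsg.Lie Cfsg.Lib.Known.ChevAut

theorem index_torusVal_D4 {F : Type*} [Field F] [Fintype F] :
    (torusVal chevD4 F).range.index = Nat.gcd 2 (Fintype.card F - 1) ^ 2 := by
  let A : Fin 4 → Fin 4 → ℤ := fun i j =>
    ([[2, -1, 0, 0], [-1, 2, -1, -1], [0, -1, 2, 0], [0, -1, 0, 2]].getD i.val []).getD j.val 0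
  have hA : ∀ i j : Fin 4, chevD4.cartan i.val (chevD4.simple j.val) = A i j := by decide +kernel
  classical
  let T : (Fin 4 → Fˣ) →* (Fin 4 → Fˣ) := torusVal chevD4 F
  have hT : ∀ c j, T c j = c 0 ^ A 0 j * c 1 ^ A 1 j * c 2 ^ A 2 j * c 3 ^ A 3 j := fun c j => by
    show ∏ i : Fin 4, c i ^ chevD4.cartan i (chevD4.simple j) = _
    rw [Fin.prod_univ_four]
    simp only [← hA]
  show T.range.index = _
  have h1 := T.ker.card_mul_index
  have h2 := T.range.card_mul_index
  rw [Subgroup.index_ker] at h1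
  have hidx : T.range.index = Nat.card T.ker :=
    Nat.eq_of_mul_eq_mul_left Nat.card_pos (h2.trans (h1.symm.trans (mul_comm _ _)))
  rw [hidx]
  let K := (powMonoidHom 2 : Fˣ →* Fˣ).ker
  have hK : Nat.card K = Nat.gcd 2 (Fintype.card F - 1) := by
    rw [IsCyclic.card_powMonoidHom_ker, Nat.card_eq_fintype_card, Fintype.card_units, Nat.gcd_comm]
  rw [← hK, pow_two, ← Nat.card_prod]
  have hker : ∀ c, c ∈ T.ker ↔ c 1 = 1 ∧ c 0 ^ 2 = 1 ∧ c 2 ^ 2 = 1 ∧ c 3 = c 0 * c 2 := fun c => by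
    rw [MonoidHom.mem_ker]
    constructor
    · intro h
      have e : ∀ j, c 0 ^ A 0 j * c 1 ^ A 1 j * c 2 ^ A 2 j * c 3 ^ A 3 j = 1 := fun j =>
        (hT c j).symm.trans (congrFun h j)
      have r0 : c 0 ^ 2 = c 1 := by
        have e0 := e 0
        simpa [A, zpow_neg, mul_inv_eq_one, zpow_two, pow_two] using e0
      have r1 : c 1 ^ 2 = c 0 * c 2 * c 3 := by
        have e1 := e 1
        simp [A, zpow_neg, zpow_two] at e1
        rw [mul_inv_eq_one, mul_inv_eq_iff_eq_mul, inv_mul_eq_iff_eq_mul] at e1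
        rw [e1]
        rw [mul_comm (c 3) (c 2), mul_assoc]
      have r2 : c 2 ^ 2 = c 1 := by
        have e2 := e 2
        simp [A, zpow_neg, zpow_two] at e2
        exact (inv_mul_eq_one.1 e2).symm
      have r3 : c 3 ^ 2 = c 1 := by
        have e3 := e 3
        simp [A, zpow_neg, zpow_two] at e3
        exact (inv_mul_eq_one.1 e3).symm
      have r4 : c 1 * c 1 ^ 3 = 1 * c 1 ^ 3 :=
        calc c 1 * c 1 ^ 3 = (c 1 ^ 2) ^ 2 := by rw [← pow_succ', ← pow_mul]
          _ = 1 * c 1 ^ 3 := by rw [r1, mul_pow, mul_pow, r0, r2, r3, one_mul, pow_succ, pow_two]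
      have hc1 : c 1 = 1 := mul_right_cancel r4
      rw [hc1] at r0 r2 r3
      rw [hc1, one_pow] at r1
      refine ⟨hc1, r0, r2, ?_⟩
      rw [pow_two, mul_eq_one_iff_eq_inv] at r3
      rw [r3]
      exact (eq_inv_of_mul_eq_one_left r1.symm).symm
    · rintro ⟨a, b, d, g⟩
      have hg : c 3 ^ 2 = 1 := by rw [g, mul_pow, b, d, one_mul]
      funext j
      rw [hT]
      fin_cases j
      · simp [A, a, zpow_two, ← pow_two, b]
      · simp [A, a, g]
        rw [mul_comm (c 2)⁻¹ (c 0)⁻¹, ← _root_.mul_inv_rev, mul_comm (c 2) (c 0), ← pow_two, inv_pow, mul_pow, b, d,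
          one_mul, inv_one]
      · simp [A, a, zpow_two, ← pow_two, d]
      · simp [A, a, zpow_two, ← pow_two, hg]
  exact Nat.card_congr
    { toFun := fun c => (⟨c.1 0, ((hker c.1).1 c.2).2.1⟩, ⟨c.1 2, ((hker c.1).1 c.2).2.2.1⟩)
      invFun := fun x => ⟨![x.1.1, 1, x.2.1, x.1.1 * x.2.1], (hker _).2 ⟨rfl, x.1.2, x.2.2, rfl⟩⟩
      left_inv := fun c => by
        obtain ⟨a, b, d, g⟩ := (hker c.1).1 c.2
        refine Subtype.ext (funext fun i => ?_)
        fin_cases i
        · rfl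
        · exact a.symm
        · rfl
        · exact g.symm
      right_inv := fun x => rfl }

end Cfsg.Lib.Classical.AutOrders
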